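import Groth.Agent.L07.KoszulVars
import Mathlib.LinearAlgebra.SymmetricAlgebra.Basis
import Mathlib.RingTheory.Polynomial.Quotient
import Mathlib.RingTheory.Regular.Flat
import Mathlib.Algebra.TrivSqZeroExt.Basic

/-!
Kernels of maps of symmetric algebras; variables stay regular on localizations modulo ideals of the base.
-/

set_option autoImplicit false
set_option linter.style.haveILetI false
set_option backward.isDefEq.respectTransparency false

universe u

open RingTheory.Sequence TensorProduct

noncomputable section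

namespace Groth.L22.VBSub

variable {R M M' : Type u} [CommRing R] [AddCommGroup M] [Module R M] [AddCommGroup M'] [Module R M']
  (f : M →ₗ[R] M') (F : SymmetricAlgebra R M →ₐ[R] SymmetricAlgebra R M')
  (hF : ∀ m, F (SymmetricAlgebra.ι R M m) = SymmetricAlgebra.ι R M' (f m))

include hF in
/-- A surjection of symmetric algebras is surjective in degree one. -/
theorem surjective_of_symMap (h : Function.Surjective F) : Function.Surjective f := by
  letI : Module Rᵐᵒᵖ M' := Module.compHom M' ((RingHom.id R).fromOpposite mul_comm)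
  haveI : IsCentralScalar R M' := ⟨fun _ _ => rfl⟩
  let G : SymmetricAlgebra R M' →ₐ[R] TrivSqZeroExt R M' :=
    SymmetricAlgebra.lift (TrivSqZeroExt.inrHom R M')
  have key : ∀ x, TrivSqZeroExt.snd (G (F x)) ∈ LinearMap.range f := by
    intro x
    induction x using SymmetricAlgebra.induction with
    | algebraMap r =>
      rw [AlgHom.commutes, AlgHom.commutes, TrivSqZeroExt.algebraMap_eq_inl, TrivSqZeroExt.snd_inl]
      exact zero_mem _
    | ι m =>
      rw [hF, SymmetricAlgebra.lift_ι_apply]
      exact ⟨m, rfl⟩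
    | mul a b ha hb =>
      rw [map_mul, map_mul, TrivSqZeroExt.snd_mul, op_smul_eq_smul]
      exact add_mem (Submodule.smul_mem _ _ hb) (Submodule.smul_mem _ _ ha)
    | add a b ha hb =>
      rw [map_add, map_add, TrivSqZeroExt.snd_add]
      exact add_mem ha hb
  intro m'
  obtain ⟨x, hx⟩ := h (SymmetricAlgebra.ι R M' m')
  obtain ⟨m, hm⟩ := key x
  refine ⟨m, hm.trans ?_⟩
  rw [hx, SymmetricAlgebra.lift_ι_apply]
  rfl

include hF in
/-- The kernel of a surjection of symmetric algebras is generated by the kernel in degree one. -/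
theorem ker_symMap (hf : Function.Surjective f) :
    RingHom.ker F = Ideal.span (SymmetricAlgebra.ι R M '' (LinearMap.ker f : Set M)) := by
  refine le_antisymm (fun x hx => ?_) (Ideal.span_le.2 ?_)
  swap
  · rintro _ ⟨m, hm, rfl⟩
    show F _ = 0
    rw [hF, LinearMap.mem_ker.1 hm, map_zero]
  let J : Ideal (SymmetricAlgebra R M) := Ideal.span (SymmetricAlgebra.ι R M '' (LinearMap.ker f : Set M))
  let q : M →ₗ[R] SymmetricAlgebra R M ⧸ J := (Ideal.Quotient.mkₐ R J).toLinearMap.comp (SymmetricAlgebra.ι R M)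
  have hq : LinearMap.ker f ≤ LinearMap.ker q := fun m hm =>
    LinearMap.mem_ker.2 (Ideal.Quotient.eq_zero_iff_mem.2 (Ideal.subset_span ⟨m, hm, rfl⟩))
  let g : M' →ₗ[R] SymmetricAlgebra R M ⧸ J :=
    (Submodule.liftQ _ q hq).comp (f.quotKerEquivOfSurjective hf).symm.toLinearMap
  have hg : ∀ m, g (f m) = q m := fun m => by
    show Submodule.liftQ _ q hq ((f.quotKerEquivOfSurjective hf).symm (f m)) = q m
    rw [show (f.quotKerEquivOfSurjective hf).symm (f m) = Submodule.Quotient.mk m from
      (LinearEquiv.symm_apply_eq _).2 rfl, Submodule.liftQ_apply]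
  have hc : (SymmetricAlgebra.lift g).comp F = Ideal.Quotient.mkₐ R J := by
    refine SymmetricAlgebra.algHom_ext (LinearMap.ext fun m => ?_)
    show SymmetricAlgebra.lift g (F (SymmetricAlgebra.ι R M m)) = _
    rw [hF, SymmetricAlgebra.lift_ι_apply, hg]
    rfl
  refine Ideal.Quotient.eq_zero_iff_mem.1 ?_
  have h0 : F x = 0 := hx
  rw [← Ideal.Quotient.mkₐ_eq_mk R, ← hc, AlgHom.comp_apply, h0, map_zero]

/-- The first block of variables is weakly regular on flat algebras modulo an ideal of the base. -/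
theorem regular_quot {B S : Type u} [CommRing B] [CommRing S] [Algebra R B] [Algebra R S] [Algebra B S]
    [IsScalarTower R B S] [Module.Flat B S] {n m : ℕ} (θ : MvPolynomial (Fin n ⊕ Fin m) R ≃ₐ[R] B) (I : Ideal R) :
    IsWeaklyRegular (S ⧸ I.map (algebraMap R S))
      (List.ofFn fun l : Fin n => algebraMap B S (θ (MvPolynomial.X (Sum.inl l)))) := by
  classical
  let P := MvPolynomial (Fin n ⊕ Fin m) R
  let P' := MvPolynomial (Fin n ⊕ Fin m) (R ⧸ I)
  have h0 := Groth.L07.KoszulVars.isWeaklyRegular_X_quot (k := R ⧸ I) ((List.finRange n).map Sum.inl)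
    (∅ : Set (Fin n ⊕ Fin m)) ((List.nodup_finRange n).map Sum.inl_injective) (fun _ _ h => h)
  have h1 : IsWeaklyRegular P' (((List.finRange n).map Sum.inl).map (MvPolynomial.X (R := R ⧸ I))) :=
    ((Submodule.quotEquivOfEqBot (Ideal.span ((MvPolynomial.X (R := R ⧸ I)) '' (∅ : Set (Fin n ⊕ Fin m))))
      (by simp) : _ ≃ₗ[P'] P').isWeaklyRegular_congr _).1 h0
  rw [List.map_map, ← List.ofFn_eq_map] at h1
  let J : Ideal B := I.map (algebraMap R B)
  let ψ : P' ≃+* B ⧸ J := (MvPolynomial.quotientEquivQuotientMvPolynomial (σ := Fin n ⊕ Fin m) I).toRingEquiv.trans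
    (Ideal.quotientEquiv _ J θ.toRingEquiv (by
      rw [Ideal.map_map]
      exact congrArg (fun φ => Ideal.map φ I) (RingHom.ext fun r => (θ.commutes r).symm)))
  have hψ : ∀ i, ψ (MvPolynomial.X i) = Ideal.Quotient.mk J (θ (MvPolynomial.X i)) := fun i => by
    simp [ψ, MvPolynomial.quotientEquivQuotientMvPolynomial]
  have h2 : IsWeaklyRegular (B ⧸ J) (List.ofFn fun l : Fin n => θ (MvPolynomial.X (Sum.inl l))) := by
    refine (ψ.toAddEquiv.isWeaklyRegular_congr ?_).1 h1
    rw [List.forall₂_iff_get]
    refine ⟨by simp, fun i hi hi' x => ?_⟩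
    simp only [List.get_eq_getElem, List.getElem_ofFn, Function.comp_apply, smul_eq_mul]
    show ψ (_ * x) = _
    rw [map_mul, hψ]
    exact (Algebra.smul_def _ _).symm
  have h3 := h2.isWeaklyRegular_lTensor (M₂ := S)
  have h4 := ((TensorProduct.tensorQuotEquivQuotSMul S J).isWeaklyRegular_congr _).1 h3
  have e : J • (⊤ : Submodule B S) = (I.map (algebraMap R S)).restrictScalars B := by
    rw [Ideal.smul_top_eq_map]
    congr 1
    rw [Ideal.map_map, ← IsScalarTower.algebraMap_eq]
  have h5 := ((Submodule.quotEquivOfEq _ _ e).trans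
    (Submodule.Quotient.restrictScalarsEquiv B (I.map (algebraMap R S)))).isWeaklyRegular_congr _ |>.1 h4
  have h6 := (isWeaklyRegular_map_algebraMap_iff (S := S) (M := S ⧸ I.map (algebraMap R S)) _).2 h5
  rwa [List.map_ofFn] at h6

end Groth.L22.VBSub
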