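import Groth.Agent.L22.ZeroLocus.Ideal
import Groth.Agent.L17.Duality

/-!
The section of a pulled back bundle attached to a linear function on the dual.
-/

set_option autoImplicit false
set_option linter.style.haveILetI false
set_option linter.unusedSectionVars false
set_option backward.isDefEq.respectTransparency.types false
set_option backward.isDefEq.respectTransparency false

universe u

open CategoryTheory CategoryTheory.Limits AlgebraicGeometry TopologicalSpace Opposite
open Groth.L18.Frame (rs ro rs_rs rs_self rs_smul ro_ro ro_self pull pull_rs pull_smul)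
open Groth.L19.ProjBdl (IsBasisOn lc lc_coord coord coord_eq)

noncomputable section

namespace Groth.L22.VBSub

variable {X : Scheme.{u}} {E : X.Modules} [ModSite.HasSheafHom (O := X.sheaf) E]

/-- The pairing of the dual with the module, on sections. -/
def evX {W : X.Opens} (φ : Γ(Groth.L17.Duality.dual E, W)) (m : Γ(E, W)) : Γ(X, W) :=
  Groth.L17.LocBases.scal (Groth.L17.LocBases.ev (O := X.sheaf) E
    (B := Groth.L17.LocBases.one X.sheaf) (W := W) φ m)

theorem evX_rs {W W' : X.Opens} (h : W' ≤ W) (φ : Γ(Groth.L17.Duality.dual E, W)) (m : Γ(E, W)) :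
    evX (rs _ h φ) (rs E h m) = ro h (evX φ m) :=
  (Groth.L17.LocBases.ev_res (O := X.sheaf) E (B := Groth.L17.LocBases.one X.sheaf) (homOfLE h) φ m).symm

theorem evX_sum_left {W : X.Opens} {r : ℕ} (c : Fin r → Γ(X, W)) (φ : Fin r → Γ(Groth.L17.Duality.dual E, W))
    (m : Γ(E, W)) : evX (∑ i, c i • φ i) m = ∑ i, c i * evX (φ i) m := by
  refine (Groth.L17.LocBases.ev_sum_left (O := X.sheaf) E (B := Groth.L17.LocBases.one X.sheaf)
    Finset.univ (fun i => c i • φ i) m).trans (Finset.sum_congr rfl fun i _ => ?_)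
  exact Groth.L17.LocBases.scal_ev_smul (O := X.sheaf) (c i) (φ i) m

theorem evX_sum_right {W : X.Opens} {r : ℕ} (φ : Γ(Groth.L17.Duality.dual E, W)) (c : Fin r → Γ(X, W))
    (m : Fin r → Γ(E, W)) : evX φ (∑ i, c i • m i) = ∑ i, c i * evX φ (m i) := by
  refine (Groth.L17.LocBases.ev_sum_right (O := X.sheaf) E (B := Groth.L17.LocBases.one X.sheaf)
    φ Finset.univ (fun i => c i • m i)).trans (Finset.sum_congr rfl fun i _ => ?_)
  exact Groth.L17.LocBases.ev_smul_right (O := X.sheaf) E (c i) φ (m i)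

theorem evX_injective {W : X.Opens} {r : ℕ} {b : Fin r → Γ(E, W)} (hb : IsBasisOn E W b)
    {φ φ' : Γ(Groth.L17.Duality.dual E, W)} (h : ∀ i, evX φ (b i) = evX φ' (b i)) : φ = φ' :=
  Groth.L17.LocBases.injective_coord (O := X.sheaf) (F := E) hb.locBases (funext h)

/-- Dual families. -/
def IsDual {W : X.Opens} {r : ℕ} (b : Fin r → Γ(E, W)) (φ : Fin r → Γ(Groth.L17.Duality.dual E, W)) : Prop :=
  ∀ i j, evX (φ i) (b j) = if i = j then 1 else 0

theorem IsDual.mono {W W' : X.Opens} {r : ℕ} {b : Fin r → Γ(E, W)}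
    {φ : Fin r → Γ(Groth.L17.Duality.dual E, W)} (h : IsDual b φ) (hW : W' ≤ W) :
    IsDual (fun i => rs E hW (b i)) fun i => rs _ hW (φ i) := fun i j => by
  rw [evX_rs, h]
  split_ifs
  · exact map_one _
  · exact map_zero _

theorem exists_dual {W : X.Opens} {r : ℕ} {b : Fin r → Γ(E, W)} (hb : IsBasisOn E W b) :
    ∃ φ : Fin r → Γ(Groth.L17.Duality.dual E, W), IsDual b φ ∧ IsBasisOn (Groth.L17.Duality.dual E) W φ := by
  refine ⟨fun i => Groth.L17.LocBases.dualBasis (O := X.sheaf) hb.locBases i, fun i j => ?_,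
    Groth.L19.ProjBdl.isBasisOn_of_locBases (M := Groth.L17.Duality.dual E)
      (Groth.L17.LocBases.isBasis_dualBasis (O := X.sheaf) hb.locBases)⟩
  refine (Groth.L17.LocBases.ev_dualBasis (O := X.sheaf) hb.locBases i j).trans ?_
  rw [Pi.single_apply]
  by_cases h : i = j
  · subst h
    rw [if_pos rfl]
  · rw [if_neg h, if_neg (Ne.symm h)]

variable {V : Scheme.{u}} (π : V ⟶ X)

/-- A function on `V` for each local section, linear over the base. -/
structure LinFun (D : X.Modules) where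
  /-- The function. -/
  app : ∀ U : X.Opens, Γ(D, U) →+ Γ(V, π ⁻¹ᵁ U)
  app_smul : ∀ (U : X.Opens) (r : Γ(X, U)) (m : Γ(D, U)), app U (r • m) = π.app U r * app U m
  app_rs : ∀ {U U' : X.Opens} (h : U' ≤ U) (m : Γ(D, U)), app U' (rs D h m) = ro (π.preimage_mono h) (app U m)

variable {π} (ℓ : LinFun π (Groth.L17.Duality.dual E))

/-- The section given by dual families. -/
def loc {U : X.Opens} {r : ℕ} (b : Fin r → Γ(E, U)) (φ : Fin r → Γ(Groth.L17.Duality.dual E, U)) :
    Γ((Scheme.Modules.pullback π).obj E, π ⁻¹ᵁ U) :=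
  ∑ i, ℓ.app U (φ i) • pull π E U (b i)

theorem loc_mono {U U' : X.Opens} (h : U' ≤ U) {r : ℕ} (b : Fin r → Γ(E, U))
    (φ : Fin r → Γ(Groth.L17.Duality.dual E, U)) :
    rs _ (π.preimage_mono h) (loc ℓ b φ) = loc ℓ (fun i => rs E h (b i)) fun i => rs _ h (φ i) := by
  rw [loc, loc, Groth.L19.ProjBdl.rs_sum]
  exact Finset.sum_congr rfl fun i _ => by rw [rs_smul, ← ℓ.app_rs h, pull_rs]

theorem loc_eq {U : X.Opens} {r r' : ℕ} {b : Fin r → Γ(E, U)} (hb : IsBasisOn E U b)
    {φ : Fin r → Γ(Groth.L17.Duality.dual E, U)} (hφ : IsDual b φ) {b' : Fin r' → Γ(E, U)}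
    (hb' : IsBasisOn E U b') {φ' : Fin r' → Γ(Groth.L17.Duality.dual E, U)} (hφ' : IsDual b' φ') :
    loc ℓ b φ = loc ℓ b' φ' := by
  classical
  let M : Fin r' → Fin r → Γ(X, U) := fun j => coord hb le_rfl (b' j)
  have hb'j : ∀ j, b' j = ∑ i, M j i • b i := fun j => by
    conv_lhs => rw [← lc_coord hb le_rfl (b' j)]
    exact Finset.sum_congr rfl fun i _ => by rw [rs_self]
  have hev : ∀ i j, evX (φ i) (b' j) = M j i := fun i j => by
    rw [hb'j j, evX_sum_right, Finset.sum_eq_single i (fun l _ hl => by rw [hφ, if_neg (Ne.symm hl), mul_zero])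
      (fun h => absurd (Finset.mem_univ i) h), hφ, if_pos rfl, mul_one]
  have hφi : ∀ i, φ i = ∑ j, M j i • φ' j := fun i => evX_injective hb' fun j => by
    rw [hev, evX_sum_left, Finset.sum_eq_single j (fun l _ hl => by rw [hφ', if_neg hl, mul_zero])
      (fun h => absurd (Finset.mem_univ j) h), hφ', if_pos rfl, mul_one]
  unfold loc
  calc ∑ i, ℓ.app U (φ i) • pull π E U (b i)
      = ∑ i, ∑ j, (π.app U (M j i) * ℓ.app U (φ' j)) • pull π E U (b i) := by
        refine Finset.sum_congr rfl fun i _ => ?_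
        rw [← Finset.sum_smul]
        congr 1
        rw [hφi i, map_sum]
        exact Finset.sum_congr rfl fun j _ => ℓ.app_smul U _ _
    _ = ∑ j, ℓ.app U (φ' j) • pull π E U (b' j) := by
        rw [Finset.sum_comm]
        refine Finset.sum_congr rfl fun j _ => ?_
        rw [hb'j j, show pull π E U (∑ i, M j i • b i) = ∑ i, pull π E U (M j i • b i) from map_sum _ _ _,
          Finset.smul_sum]
        exact Finset.sum_congr rfl fun i _ => by rw [pull_smul, smul_smul, mul_comm]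

/-- The tautological section. -/
theorem exists_sec (hE : FlatMod.IsFinLocFree E) : ∃ s : Γ((Scheme.Modules.pullback π).obj E, ⊤),
    ∀ (U : X.Opens) (r : ℕ) (b : Fin r → Γ(E, U)) (φ : Fin r → Γ(Groth.L17.Duality.dual E, U))
      (hb : IsBasisOn E U b), IsDual b φ →
      coord (hb.pullback π) le_rfl (rs _ (le_top : π ⁻¹ᵁ U ≤ ⊤) s) = fun i => ℓ.app U (φ i) := by
  classical
  choose U r b hxU hb using fun x : X => Groth.L22.ZeroLocus.exists_basis hE x
  choose φ hφ _ using fun x => exists_dual (hb x)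
  let F := (Scheme.Modules.pullback π).obj E
  have hcov : (⊤ : V.Opens) ≤ iSup fun x => π ⁻¹ᵁ U x := fun v _ => Opens.mem_iSup.2 ⟨π v, hxU (π v)⟩
  obtain ⟨s, hs, -⟩ := TopCat.Sheaf.existsUnique_gluing'
    (⟨F.presheaf, F.isSheaf⟩ : TopCat.Sheaf AddCommGrpCat.{u} V.toTopCat) (fun x => π ⁻¹ᵁ U x) ⊤
    (fun x => homOfLE le_top) hcov (fun x => loc ℓ (b x) (φ x)) (fun x y => by
      show rs F (π.preimage_mono (inf_le_left : U x ⊓ U y ≤ U x)) (loc ℓ (b x) (φ x)) =
        rs F (π.preimage_mono (inf_le_right : U x ⊓ U y ≤ U y)) (loc ℓ (b y) (φ y))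
      rw [loc_mono, loc_mono]
      exact loc_eq ℓ ((hb x).mono inf_le_left) ((hφ x).mono inf_le_left) ((hb y).mono inf_le_right)
        ((hφ y).mono inf_le_right))
  refine ⟨s, fun U' r' b' φ' hb' hφ' => coord_eq _ _ ?_⟩
  show (∑ i, ℓ.app U' (φ' i) • rs F le_rfl (pull π E U' (b' i))) = _
  simp only [rs_self]
  refine TopCat.Sheaf.eq_of_locally_eq' (⟨F.presheaf, F.isSheaf⟩ : TopCat.Sheaf AddCommGrpCat.{u} V.toTopCat)
    (fun x => π ⁻¹ᵁ (U x ⊓ U')) (π ⁻¹ᵁ U') (fun x => homOfLE (π.preimage_mono inf_le_right))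
    (fun v hv => Opens.mem_iSup.2 ⟨π v, hxU (π v), hv⟩) _ _ fun x => ?_
  show rs F (π.preimage_mono (inf_le_right : U x ⊓ U' ≤ U')) (loc ℓ b' φ') =
    rs F (π.preimage_mono (inf_le_right : U x ⊓ U' ≤ U')) (rs F le_top s)
  rw [rs_rs, loc_mono ℓ (inf_le_right : U x ⊓ U' ≤ U'), loc_eq ℓ (hb'.mono inf_le_right) (hφ'.mono inf_le_right) ((hb x).mono inf_le_left)
    ((hφ x).mono inf_le_left), ← loc_mono ℓ inf_le_left, show loc ℓ (b x) (φ x) = rs F le_top s from (hs x).symm, rs_rs]

end Groth.L22.VBSub
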