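import Groth.Agent.L12.FinCov.Spec
import Groth.Agent.L18.SymGraded
import Groth.Agent.L20.Infinitesimal.Flat
import Groth.Agent.L22.VBSub.Taut
import Groth.Agent.L22.VBSub.Alg
import Groth.Agent.L22.VBSub.Poly
import Groth.Agent.L22.Bundle.SecBasis
import Groth.Agent.L19.ProjBdl.Diff

/-!
Functions on the spectrum of a symmetric algebra, and the ideal of the spectrum of a quotient algebra.
-/

set_option autoImplicit false
set_option linter.style.haveILetI false
set_option linter.unusedSectionVars false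
set_option backward.isDefEq.respectTransparency.types false
set_option backward.isDefEq.respectTransparency false

universe u

open CategoryTheory CategoryTheory.Limits AlgebraicGeometry TopologicalSpace Opposite
open Groth.L18.SymSheaf (Sym exists_equiv smul_toModule)
open Groth.L19.ProjBdl (IsBasisOn lc)
open Groth.L18.Frame (rs ro rs_self)
open Groth.L12.FinCov (gam gam_π gam_res bijective_gam Sec resA)

noncomputable section

namespace Groth.L22.VBSub

attribute [local instance] Groth.L12.FinCov.algS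

variable {X : Scheme.{u}} {M : X.Modules} {A : RelSpec.QCAlg X} (j : M ⟶ A.toModule)

/-- The function on the spectrum attached to a section of the module. -/
def fn (U : X.Opens) (m : Γ(M, U)) : Γ(A.spec, A.π ⁻¹ᵁ U) :=
  ((bijective_gam A U).2 (show Sec A U from j.app U m)).choose

theorem gam_fn (U : X.Opens) (m : Γ(M, U)) : gam A U (fn j U m) = (show Sec A U from j.app U m) :=
  ((bijective_gam A U).2 (show Sec A U from j.app U m)).choose_spec

theorem fn_add (U : X.Opens) (m m' : Γ(M, U)) : fn j U (m + m') = fn j U m + fn j U m' := by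
  apply (bijective_gam A U).1
  rw [map_add, gam_fn, gam_fn, gam_fn]
  exact map_add (j.app U).hom m m'

theorem fn_smul (U : X.Opens) (r : Γ(X, U)) (m : Γ(M, U)) : fn j U (r • m) = A.π.app U r * fn j U m := by
  apply (bijective_gam A U).1
  rw [map_mul, gam_fn, gam_fn, gam_π]
  exact (Scheme.Modules.Hom.app_smul j r m).trans (smul_toModule A U r _)

theorem fn_rs {U U' : X.Opens} (h : U' ≤ U) (m : Γ(M, U)) :
    fn j U' (rs M h m) = ro (A.π.preimage_mono h) (fn j U m) := by
  apply (bijective_gam A U').1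
  refine (gam_fn j U' _).trans (Eq.trans ?_ (gam_res A h (fn j U m)).symm)
  rw [gam_fn]
  exact congr($(j.mapPresheaf.naturality (homOfLE h).op) m)

/-- The linear function on the spectrum of a map out of the dual. -/
def linFun {D : X.Modules} (c : D ⟶ M) : LinFun A.π D where
  app U := AddMonoidHom.mk' (fun m => fn j U (c.app U m)) fun m m' => by
    show fn j U (c.app U (m + m')) = _
    rw [show c.app U (m + m') = c.app U m + c.app U m' from map_add _ _ _, fn_add]
  app_smul U r m := by
    show fn j U (c.app U (r • m)) = _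
    rw [Scheme.Modules.Hom.app_smul, fn_smul]
    rfl
  app_rs {U U'} h m := by
    show fn j U' (c.app U' (rs D h m)) = _
    rw [Groth.L19.ProjBdl.app_rs c h, fn_rs]
    rfl

section Sym

variable [Coh.IsQCoh M] (hA : RelSpec.IsSymAlg M A j) {U : X.Opens} (hU : IsAffineOpen U)

include hA in
/-- The ring of functions over an affine open is the symmetric algebra. -/
theorem exists_sym (hU : IsAffineOpen U) : ∃ Θ : Sym M U ≃+* Γ(A.spec, A.π ⁻¹ᵁ U),
    (∀ r, Θ (algebraMap _ (Sym M U) r) = A.π.app U r) ∧ ∀ m, Θ (SymmetricAlgebra.ι _ Γ(M, U) m) = fn j U m := by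
  obtain ⟨Φ, h0, h1, -⟩ := exists_equiv hA
  let g : Γ(A.spec, A.π ⁻¹ᵁ U) ≃+* Sec A U := RingEquiv.ofBijective (gam A U) (bijective_gam A U)
  refine ⟨(Φ U hU).trans g.symm, fun r => ?_, fun m => ?_⟩
  · apply g.injective
    show g (g.symm (Φ U hU _)) = _
    rw [g.apply_symm_apply, h0]
    exact (gam_π A U r).symm
  · apply g.injective
    show g (g.symm (Φ U hU _)) = _
    rw [g.apply_symm_apply, h1]
    exact (gam_fn j U m).symm

include hA in
theorem isPolyChart {n : ℕ} (hM : FlatMod.IsFinLocFreeOfRank n M) : IsPolyChart A.π n := fun x => by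
  obtain ⟨U, b, hU, hxU, -, hb⟩ := Groth.L12.FinCov.exists_basisOn_of_rank hM x ⊤ trivial
  obtain ⟨Θ, h0, h1⟩ := exists_sym j hA hU
  have hb' : IsBasisOn M U b := hb
  let B : Module.Basis (Fin n) Γ(X, U) Γ(M, U) := Module.Basis.ofEquivFun (LinearEquiv.ofBijective
    (Fintype.linearCombination Γ(X, U) b) (by
      refine Eq.mp (congrArg Function.Bijective ?_) (hb' U le_rfl)
      funext c
      simp [lc, rs_self, Fintype.linearCombination_apply])).symm
  refine ⟨U, hU, hxU, hU.preimage A.π, Fin n, inferInstance, by simp,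
    (SymmetricAlgebra.equivMvPolynomial B).toRingEquiv.symm.trans Θ, fun r => ?_⟩
  show Θ ((SymmetricAlgebra.equivMvPolynomial B).symm (MvPolynomial.C r)) = _
  rw [show (SymmetricAlgebra.equivMvPolynomial B).symm (MvPolynomial.C r) = algebraMap _ (Sym M U) r from
    (SymmetricAlgebra.equivMvPolynomial B).symm.commutes r, h0]

end Sym

section Map

variable {A' : RelSpec.QCAlg X} (φ : A ⟶ A')

theorem le_preimage (U : X.Opens) : A'.π ⁻¹ᵁ U ≤ RelSpec.QCAlg.specMap φ ⁻¹ᵁ (A.π ⁻¹ᵁ U) :=
  le_of_eq (by rw [← Scheme.Hom.comp_preimage, RelSpec.QCAlg.specMap_π])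

/-- The map on functions is the algebra map. -/
theorem gam_specMap {U : X.Opens} (hU : IsAffineOpen U) (z : Γ(A.spec, A.π ⁻¹ᵁ U)) :
    gam A' U ((RelSpec.QCAlg.specMap φ).appLE (A.π ⁻¹ᵁ U) (A'.π ⁻¹ᵁ U) (le_preimage φ U) z) =
      (φ.hom.app (op U)).hom (gam A U z) := by
  have e : (RelSpec.QCAlg.specMap φ).appLE (A.π ⁻¹ᵁ U) (A'.π ⁻¹ᵁ U) (le_preimage φ U) ≫ A'.gammaMap.app (op U) =
      A.gammaMap.app (op U) ≫ φ.hom.app (op U) := by
    rw [A'.gammaMap_app U hU, A.gammaMap_app U hU, RelSpec.QCAlg.gammaAff, RelSpec.QCAlg.gammaAff,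
      ← Category.assoc, Category.assoc, Category.assoc, Scheme.Hom.appLE_comp_appLE_assoc]
    simp only [RelSpec.QCAlg.ι_specMap U hU φ]
    rw [Scheme.Hom.comp_appLE]
    simp only [Category.assoc, Scheme.Hom.appLE]
    rw [← Scheme.ΓSpecIso_naturality]
    simp only [Scheme.Hom.appTop, ← Category.assoc]
    congr 1
  exact ConcreteCategory.congr_hom e z

end Map

end Groth.L22.VBSub
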