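import Groth.Agent.L22.Chern.Segre
import Groth.Agent.L22.Chern.DualClass
import Groth.Agent.L22.Chern.Splitting
import Groth.Agent.L22.SubBundle.Ops
import Groth.Agent.L22.C1.RatOn
import Groth.Agent.L22.C1.Family

/-!
The top Chern class of a filtered module as a map of cycles, linear for locally finite sums.
-/

set_option autoImplicit false
set_option linter.style.haveILetI false
set_option linter.unusedSectionVars false
set_option maxHeartbeats 800000
set_option backward.isDefEq.respectTransparency.types false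
set_option backward.isDefEq.respectTransparency false

universe u

open CategoryTheory CategoryTheory.Limits AlgebraicGeometry TopologicalSpace
open Groth.L22.Chern (emb C pw pw_mem sec sec_ne x1 x1_emb pushC SubFlag rank_pullback)

noncomputable section

namespace Groth.L22.VBSub

variable {X : Scheme.{u}}

/-- A locally finite family of closed sets. -/
structure LocFam {I : Type u} (S : I → Set X) : Prop where
  closed : ∀ i, IsClosed (S i)
  finite : ∀ x : X, ∃ U : Set X, IsOpen U ∧ x ∈ U ∧ {i | (S i ∩ U).Nonempty}.Finite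

/-- A cycle is the locally finite sum of cycles on the members of a family. -/
structure IsSumOf {I : Type u} (S : I → Set X) (G : I → AlgebraicCycle X ℤ) (A : AlgebraicCycle X ℤ) : Prop where
  supp : ∀ i x, G i x ≠ 0 → x ∈ S i
  eq : ∀ x, A x = ∑ᶠ i, G i x

/-- A map of cycles respecting locally finite sums. -/
def SumMap (T : AlgebraicCycle X ℤ →+ AlgebraicCycle X ℤ) : Prop :=
  ∀ {I : Type u} (S : I → Set X), LocFam S → ∀ (G : I → AlgebraicCycle X ℤ) (A : AlgebraicCycle X ℤ),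
    IsSumOf S G A → IsSumOf S (fun i => T (G i)) (T A)

variable [IsLocallyNoetherian X] {δ : X → ℤ} (hd : Cyc.IsDimFun X δ) {L : X.Modules} (hL : PicF.IsInvertible L)

theorem pw_one_apply {u : (ξ : X) → Cyc.secFibre L ξ} (hu : ∀ ξ, u ξ ≠ 0) (A : AlgebraicCycle X ℤ) :
    ⇑(pw hd hL hu 1 A) = Cyc.c1CapFun δ L ⇑A u := by
  rw [pw, Groth.L22.Chern.cap_succ, Groth.L22.Chern.cap_zero]

/-- Caps respect locally finite sums. -/
theorem sumMap_pw {u : (ξ : X) → Cyc.secFibre L ξ} (hu : ∀ ξ, u ξ ≠ 0) : SumMap (pw hd hL hu 1) := by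
  classical
  intro I S hS G A hA
  refine ⟨fun i x hx => ?_, fun x => ?_⟩
  · rw [pw_one_apply hd hL hu] at hx
    obtain ⟨ξ, hξ⟩ : ∃ ξ, G i ξ * Cyc.secDivFun δ L ξ (u ξ) x ≠ 0 := by
      by_contra h
      exact hx (finsum_eq_zero_of_forall_eq_zero fun ξ => not_not.1 fun h' => h ⟨ξ, h'⟩)
    exact (Groth.L22.C1.secDivFun_ne_zero δ (right_ne_zero_of_mul hξ)).1.mem_closed (hS.closed i)
      (hA.supp i ξ (left_ne_zero_of_mul hξ))
  obtain ⟨U, hU, hxU, hfin⟩ := hS.finite x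
  set I₀ := hfin.toFinset with hI
  set Q := I₀.biUnion fun i => (Groth.L22.C1.finite_gen (G i) x).toFinset with hQ
  have hmem : ∀ {i ξ}, ξ ⤳ x → G i ξ ≠ 0 → i ∈ I₀ ∧ ξ ∈ Q := fun {i ξ} h1 h2 => by
    have hi : i ∈ I₀ := hfin.mem_toFinset.2 ⟨x, h1.mem_closed (hS.closed i) (hA.supp i ξ h2), hxU⟩
    exact ⟨hi, Finset.mem_biUnion.2 ⟨i, hi, (Set.Finite.mem_toFinset _).2 ⟨h1, h2⟩⟩⟩
  have hG' : ∀ ξ, ξ ⤳ x → A ξ = ∑ i ∈ I₀, G i ξ := fun ξ h => by
    rw [hA.eq ξ]
    exact finsum_eq_sum_of_support_subset _ fun i hi => Finset.mem_coe.2 (hmem h hi).1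
  have h1 : pw hd hL hu 1 A x = ∑ ξ ∈ Q, A ξ * Cyc.secDivFun δ L ξ (u ξ) x := by
    rw [pw_one_apply hd hL hu]
    refine finsum_eq_sum_of_support_subset _ fun ξ hξ => ?_
    obtain ⟨h1, h2⟩ := mul_ne_zero_iff.1 hξ
    have hsp := (Groth.L22.C1.secDivFun_ne_zero δ h2).1
    obtain ⟨i, -, hi⟩ := Finset.exists_ne_zero_of_sum_ne_zero (hG' ξ hsp ▸ h1)
    exact Finset.mem_coe.2 (hmem hsp hi).2
  have h2 : ∀ i, pw hd hL hu 1 (G i) x = ∑ ξ ∈ Q, G i ξ * Cyc.secDivFun δ L ξ (u ξ) x := fun i => by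
    rw [pw_one_apply hd hL hu]
    refine finsum_eq_sum_of_support_subset _ fun ξ hξ => ?_
    obtain ⟨h1, h2⟩ := mul_ne_zero_iff.1 hξ
    exact Finset.mem_coe.2 (hmem (Groth.L22.C1.secDivFun_ne_zero δ h2).1 h1).2
  have hQ' : ∀ ξ ∈ Q, ξ ⤳ x := fun ξ hξ => by
    obtain ⟨i, -, hi⟩ := Finset.mem_biUnion.1 hξ
    exact ((Set.Finite.mem_toFinset _).1 hi).1
  rw [h1, finsum_congr h2, finsum_eq_sum_of_support_subset _ (s := I₀) fun i hi => by
    obtain ⟨ξ, hξS, hξ⟩ := Finset.exists_ne_zero_of_sum_ne_zero hi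
    exact Finset.mem_coe.2 (hmem (hQ' ξ hξS) (left_ne_zero_of_mul hξ)).1, Finset.sum_comm]
  exact Finset.sum_congr rfl fun ξ hξ => by rw [hG' ξ (hQ' ξ hξ), Finset.sum_mul]

/-- Caps commute with push-forward along closed immersions, on cycles. -/
theorem pw_pushC_closed {Y : Scheme.{u}} [IsLocallyNoetherian Y] (f : Y ⟶ X) [IsClosedImmersion f]
    {u : (ξ : X) → Cyc.secFibre L ξ} (hu : ∀ ξ, u ξ ≠ 0)
    (hu' : ∀ ξ, Groth.L22.C1.pullSec f u ξ ≠ 0) (B : AlgebraicCycle Y ℤ) :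
    pw hd hL hu 1 (pushC f (fun y => δ (f y)) δ B) =
      pushC f (fun y => δ (f y)) δ
        (pw (Groth.L22.Cyc.isDimFun_closedImmersion f hd) (Groth.L18.Ample.isInvertible_pullback f hL) hu' 1 B) := by
  ext x
  rw [pw_one_apply hd hL hu]
  by_cases hx : x ∈ Set.range f
  · obtain ⟨y, rfl⟩ := hx
    rw [Groth.L22.C1.c1CapFun_closedImmersion f hd hL _ (fun x hx => Groth.L22.SubBundle.pushC_outside f δ B hx) u hu,
      Groth.L22.SubBundle.pushC_apply_closed, pw_one_apply]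
    exact congrArg (fun F => Cyc.c1CapFun (fun w => δ (f w)) _ F _ y)
      (funext fun z => Groth.L22.SubBundle.pushC_apply_closed f δ B z)
  · rw [Groth.L22.C1.c1CapFun_eq_zero_of_notMem f _ (fun x hx => Groth.L22.SubBundle.pushC_outside f δ B hx) u hx,
      Groth.L22.SubBundle.pushC_outside f δ _ hx]

/-- The top class of a filtered module as a map of cycles. -/
theorem exists_topMap (hX : Cyc.IsSetup X δ) {G : X.Modules} {n : ℕ} (h : SubFlag G n) :
    FlatMod.IsFinLocFreeOfRank n G ∧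
    ∃ T : AlgebraicCycle X ℤ →+ AlgebraicCycle X ℤ, SumMap T ∧
      (∀ k A, A ∈ Cyc.Zk X δ k → T A ∈ Cyc.Zk X δ (k - (n : ℤ))) ∧
      (∀ (hG : FlatMod.IsFinLocFreeOfRank n G) k A, A ∈ Cyc.Zk X δ k →
        C hX hG n (emb δ k A) = emb δ (k - (n : ℤ)) (T A)) ∧
      ∀ (Y : Scheme.{u}) [IsLocallyNoetherian Y] (f : Y ⟶ X) [IsClosedImmersion f]
        (hY : Cyc.IsSetup Y fun y => δ (f y)) (hG : FlatMod.IsFinLocFreeOfRank n ((Scheme.Modules.pullback f).obj G))
        (k : ℤ) (A : AlgebraicCycle Y ℤ), A ∈ Cyc.Zk Y (fun y => δ (f y)) k →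
        ∃ B ∈ Cyc.Zk Y (fun y => δ (f y)) (k - (n : ℤ)),
          T (pushC f (fun y => δ (f y)) δ A) = pushC f (fun y => δ (f y)) δ B ∧
            C hY hG n (emb (fun y => δ (f y)) k A) = emb (fun y => δ (f y)) (k - (n : ℤ)) B := by
  induction h with
  | @zero E hz =>
    refine ⟨Groth.L22.Chern.rank_zero_of_isZero hz, AddMonoidHom.id _, fun S _ G A hA => hA, fun k A hA => ?_,
      fun hG k A hA => ?_, fun Y _ f _ hY hG k A hA => ⟨A, ?_, rfl, ?_⟩⟩
    · simpa using hA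
    · simp [Groth.L22.Chern.C_zero]
    · simpa using hA
    · simp [Groth.L22.Chern.C_zero]
  | @succ K E L n a b hab hex hL hK ih =>
    obtain ⟨hKr, T, hTs, hTm, hTC, hTf⟩ := ih
    have hL1 := Groth.L12.FinCov.isFinLocFreeOfRank_one_of_isInvertible hL
    have hEr : FlatMod.IsFinLocFreeOfRank (n + 1) E := Groth.L13.Canon.isFinLocFreeOfRank_middle hex hKr hL1
    have hd := hX.2.2
    have top : ∀ {Y : Scheme.{u}} [IsLocallyNoetherian Y] {δ' : Y → ℤ} (hY : Cyc.IsSetup Y δ') {K E L : Y.Modules}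
        (hK : FlatMod.IsFinLocFreeOfRank n K) (hE : FlatMod.IsFinLocFreeOfRank (n + 1) E) (hL : PicF.IsInvertible L)
        (a : K ⟶ E) (b : E ⟶ L) (hab : a ≫ b = 0), (ShortComplex.mk a b hab).ShortExact →
        C hY hE (n + 1) = x1 hY.2.2 hL * C hY hK n := by
      intro Y _ δ' hY K E L hK hE hL a b hab hex
      have hL1 := Groth.L12.FinCov.isFinLocFreeOfRank_one_of_isInvertible hL
      rw [Groth.L22.Chern.C_whitney hY hK hL1 hE a b hab hex, Finset.sum_eq_single (n, 1)]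
      · rw [Groth.L22.Chern.C_one_invertible hY hL1, Groth.L22.Chern.C_x1_comm]
      · rintro ⟨p, q⟩ hpq hne
        rw [Finset.mem_antidiagonal] at hpq
        rcases Nat.lt_or_ge n p with h' | h'
        · rw [Groth.L22.Chern.C_of_lt hY hK h', zero_mul]
        · have hq : 1 < q := by
            by_contra hq
            exact hne (Prod.ext (by simp only at hpq ⊢; omega) (by simp only at hpq ⊢; omega))
          rw [Groth.L22.Chern.C_of_lt hY hL1 hq, mul_zero]
      · intro h'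
        exact absurd (Finset.mem_antidiagonal.2 (rfl : ((n, 1) : ℕ × ℕ).1 + ((n, 1) : ℕ × ℕ).2 = n + 1)) h'
    refine ⟨hEr, (pw hd hL (sec_ne hL) 1).comp T, fun S hS G A hA => sumMap_pw hd hL (sec_ne hL) S hS _ _ (hTs S hS G A hA),
      fun k A hA => ?_, fun hG k A hA => ?_, fun Y _ f _ hY hG k A hA => ?_⟩
    · have := pw_mem hd hL (sec_ne hL) (hTm k A hA) 1
      rwa [show k - (n : ℤ) - ((1 : ℕ) : ℤ) = k - ((n + 1 : ℕ) : ℤ) by push_cast; ring] at this
    · rw [top hX hKr hG hL a b hab hex]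
      show x1 hd hL (C hX hKr n (emb δ k A)) = _
      rw [hTC hKr k A hA, x1_emb hd hL (sec_ne hL) (hTm k A hA),
        show k - (n : ℤ) - 1 = k - ((n + 1 : ℕ) : ℤ) by push_cast; ring]
      rfl
    · obtain ⟨B, hB, e1, e2⟩ := hTf Y f hY (rank_pullback f hKr) k A hA
      have hu' : ∀ ξ, Groth.L22.C1.pullSec f (sec hL) ξ ≠ 0 := fun ξ =>
        Groth.L22.C1.pullSec_ne_zero f hL (Groth.L18.Ample.isInvertible_pullback f hL) _ ξ (sec_ne hL _)
      refine ⟨pw hY.2.2 (Groth.L18.Ample.isInvertible_pullback f hL) hu' 1 B, ?_, ?_, ?_⟩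
      · have := pw_mem hY.2.2 (Groth.L18.Ample.isInvertible_pullback f hL) hu' hB 1
        rwa [show k - (n : ℤ) - ((1 : ℕ) : ℤ) = k - ((n + 1 : ℕ) : ℤ) by push_cast; ring] at this
      · show pw hd hL (sec_ne hL) 1 (T _) = _
        rw [e1]
        exact pw_pushC_closed hd hL f (sec_ne hL) hu' B
      · rw [top hY (rank_pullback f hKr) hG (Groth.L18.Ample.isInvertible_pullback f hL)
          ((Scheme.Modules.pullback f).map a) ((Scheme.Modules.pullback f).map b)
          (by rw [← Functor.map_comp, hab, Functor.map_zero])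
          (Groth.L03.VBPn.shortExact_pullback_of_invertible hex hL f)]
        show x1 hY.2.2 _ (C hY (rank_pullback f hKr) n (emb _ k A)) = _
        rw [e2, x1_emb hY.2.2 _ hu' hB, show k - (n : ℤ) - 1 = k - ((n + 1 : ℕ) : ℤ) by push_cast; ring]

/-- A locally finite sum of cycles, each rationally trivial on its closed set, is rationally trivial. -/
theorem ratOn_sum {k : ℤ} {I : Type u} {S : I → Set X} (hS : LocFam S) (G : I → X → ℤ)
    (hG : ∀ i, Groth.L22.C1.RatOn δ k (S i) (G i)) :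
    Groth.L22.C1.RatOn δ k Set.univ (fun x => ∑ᶠ i, G i x) := by
  choose J ζ f h1 h2 h3 h4 h5 using hG
  have hlf : ∀ x : X, ∃ U : Set X, IsOpen U ∧ x ∈ U ∧
      {a : Σ i, J i | (closure {ζ a.1 a.2} ∩ U).Nonempty}.Finite := fun x => by
    obtain ⟨U, hU, hxU, hfin⟩ := hS.finite x
    choose V hV hxV hVfin using fun i => h4 i x
    refine ⟨U ∩ ⋂ i ∈ hfin.toFinset, V i, hU.inter (isOpen_biInter_finset fun i _ => hV i),
      ⟨hxU, Set.mem_iInter₂.2 fun i _ => hxV i⟩,
      (hfin.biUnion fun i _ => (hVfin i).image (Sigma.mk i)).subset ?_⟩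
    rintro ⟨i, j⟩ ⟨z, hz, hzU, hzV⟩
    have hi : (S i ∩ U).Nonempty := ⟨z, closure_minimal (Set.singleton_subset_iff.2 (h3 i j)) (hS.closed i) hz, hzU⟩
    exact Set.mem_biUnion (x := i) hi
      ⟨j, ⟨z, hz, Set.mem_iInter₂.1 hzV i (hfin.mem_toFinset.2 hi)⟩, rfl⟩
  refine ⟨Σ i, J i, fun a => ζ a.1 a.2, fun a => f a.1 a.2, fun a => h1 a.1 a.2, fun a => h2 a.1 a.2,
    fun a => trivial, hlf, fun x => ?_⟩
  rw [Groth.L22.Cyc.finsum_sigma_of_finite _ (Groth.L22.C1.finite_support_family _ _ x hlf)]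
  exact finsum_congr fun i => h5 i x

end Groth.L22.VBSub
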