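import Groth.Agent.L00.KFlatBasic
import Groth.Agent.L00.TensorColim
import Groth.Agent.L22.PDual.ExtSheafHom
import Groth.Agent.L16.HomSh.Adjunction
import Groth.Agent.L29.DCoh.PullTensor

/-!
Contravariance of the sheaf of homomorphisms, and its left exactness.
-/

set_option autoImplicit false
set_option linter.style.haveILetI false
set_option linter.unusedSectionVars false
set_option backward.isDefEq.respectTransparency.types false
set_option backward.isDefEq.respectTransparency false

universe u

open CategoryTheory CategoryTheory.Limits AlgebraicGeometry MonoidalCategory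

noncomputable section

namespace Groth.L22.VBSub

variable {X : Scheme.{u}}

theorem hasSheafHom (M : X.Modules) : DCoh.HasSheafHom M :=
  haveI := Groth.L17.Duality.hasSheafHom M
  ⟨_, ⟨(Groth.L16.HomSh.tensorHomAdj M).ofNatIsoLeft (Groth.L22.PDual.biIso M)⟩⟩

variable {M M' : X.Modules} [DCoh.HasSheafHom M] [DCoh.HasSheafHom M']

/-- The dual of a morphism. -/
abbrev dualMap (f : M ⟶ M') :
    (DCoh.sheafHom M').obj (Coh.structureModule X) ⟶ (DCoh.sheafHom M).obj (Coh.structureModule X) :=
  ((conjugateEquiv (DCoh.sheafHomAdj M') (DCoh.sheafHomAdj M)) ((DCoh.tensorBi (X := X)).map f)).app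
    (Coh.structureModule X)

theorem homEquiv_dualMap (f : M ⟶ M') (P : X.Modules) (k : P ⟶ (DCoh.sheafHom M').obj (Coh.structureModule X)) :
    ((DCoh.sheafHomAdj M).homEquiv _ _).symm (k ≫ dualMap f) =
      ((DCoh.tensorBi (X := X)).map f).app P ≫ ((DCoh.sheafHomAdj M').homEquiv _ _).symm k := by
  rw [Adjunction.homEquiv_counit, Adjunction.homEquiv_counit, Functor.map_comp, Category.assoc,
    conjugateEquiv_counit]
  exact ((DCoh.tensorBi (X := X)).map f).naturality_assoc k _

/-- Tensor products of a short exact sequence with flat last term, on the right. -/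
theorem shortExact_map {S : ShortComplex X.Modules} (hS : S.ShortExact) (h3 : FlatMod.IsFlat S.X₃) (P : X.Modules) :
    ∃ w : ((DCoh.tensorBi (X := X)).map S.f).app P ≫ ((DCoh.tensorBi (X := X)).map S.g).app P = 0,
      (ShortComplex.mk _ _ w).ShortExact := by
  have h := Groth.L00.KFlat.shortExact_tensor_of_flat P S hS h3
  let c : ∀ N : X.Modules, ((DCoh.tensorBi (X := X)).obj N).obj P ≅ ((DCoh.tensorBi (X := X)).obj P).obj N :=
    fun N => Groth.L00.Tensor.tensorComm N P
  have hc : ∀ {N N' : X.Modules} (f : N ⟶ N'),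
      ((DCoh.tensorBi (X := X)).map f).app P ≫ (c N').hom = (c N).hom ≫ ((DCoh.tensorBi (X := X)).obj P).map f := by
    intro N N' f
    refine ((Groth.L00.Tensor.shf X).map_comp _ _).symm.trans
      ((congrArg (Groth.L00.Tensor.shf X).map ?_).trans ((Groth.L00.Tensor.shf X).map_comp _ _))
    exact BraidedCategory.braiding_naturality_left _ _
  have w : ((DCoh.tensorBi (X := X)).map S.f).app P ≫ ((DCoh.tensorBi (X := X)).map S.g).app P = 0 := by
    rw [← NatTrans.comp_app, ← Functor.map_comp, S.zero, Functor.map_zero]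
    rfl
  exact ⟨w, ShortComplex.shortExact_of_iso (ShortComplex.isoMk (c S.X₁).symm (c S.X₂).symm (c S.X₃).symm
    (by
      refine (Iso.inv_comp_eq (c S.X₁)).2 ?_
      rw [← Category.assoc]
      exact (Iso.eq_comp_inv (c S.X₂)).2 (hc S.f))
    (by
      refine (Iso.inv_comp_eq (c S.X₂)).2 ?_
      rw [← Category.assoc]
      exact (Iso.eq_comp_inv (c S.X₃)).2 (hc S.g))) h⟩

theorem zero_dual (f : M ⟶ M') (h : f = 0) : dualMap f = 0 := by
  subst h
  refine ((DCoh.sheafHomAdj M).homEquiv _ _).symm.injective ?_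
  have := homEquiv_dualMap (0 : M ⟶ M') _ (𝟙 _)
  rw [Category.id_comp] at this
  rw [this, Functor.map_zero]
  rw [Adjunction.homEquiv_counit, Adjunction.homEquiv_counit, Functor.map_zero]
  simp

/-- The dual of a short exact sequence is left exact. -/
theorem dual_leftExact {S : ShortComplex X.Modules} (hS : S.ShortExact) (h3 : FlatMod.IsFlat S.X₃)
    [DCoh.HasSheafHom S.X₁] [DCoh.HasSheafHom S.X₂] [DCoh.HasSheafHom S.X₃] :
    ∃ w : dualMap S.g ≫ dualMap S.f = 0, Mono (dualMap S.g) ∧ (ShortComplex.mk _ _ w).Exact := by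
  haveI : ∀ N : X.Modules, ((DCoh.tensorBi (X := X)).obj N).Additive := fun N => inferInstance
  have hz : ∀ (N : X.Modules) [DCoh.HasSheafHom N] (P : X.Modules),
      ((DCoh.sheafHomAdj N).homEquiv P (Coh.structureModule X)).symm 0 = 0 := fun N _ P => by
    rw [Adjunction.homEquiv_counit, Functor.map_zero, zero_comp]
  have hm : Mono (dualMap S.g) := Preadditive.mono_of_cancel_zero _ fun {P} k hk => by
    obtain ⟨w, hw⟩ := shortExact_map hS h3 P
    haveI := hw.epi_g
    apply ((DCoh.sheafHomAdj S.X₃).homEquiv _ _).symm.injective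
    have h := homEquiv_dualMap S.g P k
    rw [hk, hz] at h
    rw [hz]
    exact zero_of_epi_comp _ h.symm
  have w : dualMap S.g ≫ dualMap S.f = 0 := by
    apply ((DCoh.sheafHomAdj S.X₁).homEquiv _ _).symm.injective
    have h2 := homEquiv_dualMap S.g _ (𝟙 _)
    rw [Category.id_comp] at h2
    rw [homEquiv_dualMap, h2, ← Category.assoc, hz]
    obtain ⟨w, -⟩ := shortExact_map hS h3 ((DCoh.sheafHom S.X₃).obj (Coh.structureModule X))
    exact (congrArg (· ≫ _) w).trans zero_comp
  refine ⟨w, hm, ?_⟩
  haveI := hm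
  refine ShortComplex.exact_of_f_is_kernel _ (KernelFork.IsLimit.ofι' _ w fun {P} k hk => ?_)
  have hw := (shortExact_map hS h3 P).choose_spec
  haveI := hw.epi_g
  have h := homEquiv_dualMap S.f P k
  rw [hk, hz] at h
  refine ⟨(DCoh.sheafHomAdj S.X₃).homEquiv _ _ (hw.exact.desc _ h.symm), ?_⟩
  apply ((DCoh.sheafHomAdj S.X₂).homEquiv _ _).symm.injective
  rw [homEquiv_dualMap, Equiv.symm_apply_apply]
  exact hw.exact.g_desc _ h.symm

end Groth.L22.VBSub
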