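import Groth.Agent.L22.VBSub.Spec
import Groth.Agent.L22.VBSub.DualMap
import Groth.Agent.L22.PDual.ExtSheafHom
import Groth.Agent.L22.ZeroLocus.Locus
import Groth.Agent.L29.DCoh.Flat

/-!
A sub vector bundle is the regular zero scheme of the tautological section of the pulled back quotient.
-/

set_option autoImplicit false
set_option linter.style.haveILetI false
set_option linter.unusedSectionVars false
set_option maxHeartbeats 800000
set_option backward.isDefEq.respectTransparency.types false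
set_option backward.isDefEq.respectTransparency false

universe u

open CategoryTheory CategoryTheory.Limits AlgebraicGeometry TopologicalSpace Opposite IsLocalRing RingTheory.Sequence
open Groth.L18.SymSheaf (Sym)
open Groth.L19.ProjBdl (IsBasisOn lc coord exists_basisOn isBasisOn_of_iso)
open Groth.L18.Frame (rs ro rs_self)
open Groth.L22.ZeroLocus (zIdeal zIdeal_eq_span)

noncomputable section

namespace Groth.L22.VBSub

/-- Good modulo every ideal of the base. -/
def StrongGood {V X : Scheme.{u}} (π : V ⟶ X) {F : V.Modules} (s : Γ(F, ⊤)) (v : V) (r : ℕ) : Prop :=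
  ∃ fs : List (V.presheaf.stalk v), fs.length = r ∧ Ideal.ofList fs = zIdeal s v ∧
    (∀ f ∈ fs, f ∈ maximalIdeal (V.presheaf.stalk v)) ∧
    ∀ I : Ideal (X.presheaf.stalk (π v)),
      IsWeaklyRegular (V.presheaf.stalk v ⧸ I.map (π.stalkMap v).hom) fs

variable {X : Scheme.{u}} {M : X.Modules} {U : X.Opens} {n : ℕ}

/-- The basis of the sections over an open. -/
def secBasis {b : Fin n → Γ(M, U)} (hb : IsBasisOn M U b) : Module.Basis (Fin n) Γ(X, U) Γ(M, U) :=
  Module.Basis.ofEquivFun (LinearEquiv.ofBijective (Fintype.linearCombination Γ(X, U) b) (by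
    refine Eq.mp (congrArg Function.Bijective ?_) (hb U le_rfl)
    funext c
    simp [lc, rs_self, Fintype.linearCombination_apply])).symm

theorem secBasis_apply {b : Fin n → Γ(M, U)} (hb : IsBasisOn M U b) (i : Fin n) : secBasis hb i = b i := by
  classical
  rw [secBasis, Module.Basis.coe_ofEquivFun, LinearEquiv.symm_symm]
  show LinearEquiv.ofBijective _ _ (Pi.single i 1) = _
  rw [LinearEquiv.ofBijective_apply, Fintype.linearCombination_apply_single, one_smul]

/-- A morphism on sections, linearly. -/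
def appLin {M' : X.Modules} (f : M ⟶ M') (U : X.Opens) : Γ(M, U) →ₗ[Γ(X, U)] Γ(M', U) where
  toFun := f.app U
  map_add' := map_add (f.app U).hom
  map_smul' r m := f.app_smul r m

/-- The sum of two bases along a split exact sequence. -/
theorem exists_sum_basis {R K P Q : Type u} [CommRing R] [AddCommGroup K] [Module R K] [AddCommGroup P] [Module R P]
    [AddCommGroup Q] [Module R Q] (g : K →ₗ[R] P) (f : P →ₗ[R] Q) (hg : Function.Injective g)
    (hf : Function.Surjective f) (hex : Function.Exact g f) {e m : ℕ} (bK : Module.Basis (Fin e) R K)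
    (bQ : Module.Basis (Fin m) R Q) :
    ∃ B : Module.Basis (Fin e ⊕ Fin m) R P, ∀ l, B (Sum.inl l) = g (bK l) := by
  classical
  choose μ hμ using fun i => hf (bQ i)
  let t : Q →ₗ[R] P := bQ.constr R μ
  have ht : f ∘ₗ t = LinearMap.id := bQ.ext fun i => by simp [t, hμ]
  obtain ⟨e', h1, h2⟩ : ∃ e' : P ≃ₗ[R] K × Q, g = (e'.symm : K × Q →ₗ[R] P).comp (LinearMap.inl R K Q) ∧
      f = (LinearMap.snd R K Q).comp (e' : P →ₗ[R] K × Q) := by
    let σ := hex.splitSurjectiveEquiv hg ⟨t, ht⟩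
    exact ⟨σ.1, σ.2.1, σ.2.2⟩
  refine ⟨(bK.prod bQ).map e'.symm, fun l => ?_⟩
  rw [h1]
  simp [Module.Basis.prod_apply_inl_fst, Module.Basis.prod_apply]

variable {N' N E : X.Modules} {a : N' ⟶ N} {b : N ⟶ E} {hab : a ≫ b = 0}
  (hex : (ShortComplex.mk a b hab).ShortExact) {r' e : ℕ} (hN' : FlatMod.IsFinLocFreeOfRank r' N')
  (hE : FlatMod.IsFinLocFreeOfRank e E) [DCoh.HasSheafHom N] [DCoh.HasSheafHom N']
  {A : RelSpec.QCAlg X} {j : (DCoh.sheafHom N).obj (Coh.structureModule X) ⟶ A.toModule}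
  [Coh.IsQCoh ((DCoh.sheafHom N).obj (Coh.structureModule X))]
  (hA : RelSpec.IsSymAlg ((DCoh.sheafHom N).obj (Coh.structureModule X)) A j)
  {A' : RelSpec.QCAlg X} {j' : (DCoh.sheafHom N').obj (Coh.structureModule X) ⟶ A'.toModule}
  [Coh.IsQCoh ((DCoh.sheafHom N').obj (Coh.structureModule X))]
  (hA' : RelSpec.IsSymAlg ((DCoh.sheafHom N').obj (Coh.structureModule X)) A' j') (φ : A ⟶ A')
  (hφ : j ≫ RelSpec.QCAlg.Hom.toModuleMap φ = dualMap a ≫ j')
  [IsClosedImmersion (RelSpec.QCAlg.specMap φ)]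

/-- The dual of a bundle has bases where the bundle has one. -/
theorem exists_dual_basis (F : X.Modules) [DCoh.HasSheafHom F] {U : X.Opens} {r : ℕ} {c : Fin r → Γ(F, U)}
    (hc : IsBasisOn F U c) :
    haveI := Groth.L17.Duality.hasSheafHom F
    ∃ φ : Fin r → Γ(Groth.L17.Duality.dual F, U), IsDual c φ ∧
      IsBasisOn ((DCoh.sheafHom F).obj (Coh.structureModule X)) U
        fun i => ((Groth.L22.PDual.homIso F).inv.app (Coh.structureModule X)).app U (φ i) := by
  haveI := Groth.L17.Duality.hasSheafHom F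
  obtain ⟨φ, h1, h2⟩ := exists_dual hc
  exact ⟨φ, h1, isBasisOn_of_iso ((Groth.L22.PDual.homIso F).app (Coh.structureModule X)).symm h2⟩

include hex hN' hE hA hA' hφ in
/-- Locally the sub-bundle is cut out by coordinates. -/
theorem exists_chart [DCoh.HasSheafHom E] (x : X) : haveI := Groth.L17.Duality.hasSheafHom E
    ∃ U : X.Opens, IsAffineOpen U ∧ x ∈ U ∧ ∃ (ε : Fin e → Γ(E, U)) (φE : Fin e → Γ(Groth.L17.Duality.dual E, U))
      (hε : IsBasisOn E U ε), IsDual ε φE ∧
      ∃ θ : MvPolynomial (Fin e ⊕ Fin r') Γ(X, U) ≃+* Γ(A.spec, A.π ⁻¹ᵁ U),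
        (∀ r, θ (MvPolynomial.C r) = A.π.app U r) ∧
        (∀ l, θ (MvPolynomial.X (Sum.inl l)) = (linFun j
          ((Groth.L22.PDual.homIso E).inv.app (Coh.structureModule X) ≫ dualMap b)).app U (φE l)) ∧
        RingHom.ker ((RelSpec.QCAlg.specMap φ).app (A.π ⁻¹ᵁ U)).hom =
          Ideal.span (Set.range fun l => θ (MvPolynomial.X (Sum.inl l))) := by
  classical
  haveI := Groth.L17.Duality.hasSheafHom E
  obtain ⟨U₀, n', c, -, hxU₀, -, hc⟩ := exists_basisOn (Groth.L18.KRRAmple.isFinLocFree_of_rank hN') x ⊤ trivial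
  obtain ⟨U₁, ε₀, -, hxU₁, -, hε₀⟩ := Groth.L12.FinCov.exists_basisOn_of_rank hE x ⊤ trivial
  obtain ⟨U₂, c₂, -, hxU₂, -, hc₂⟩ := Groth.L12.FinCov.exists_basisOn_of_rank hN' x ⊤ trivial
  obtain ⟨U, hU, hxU, hUle⟩ := exists_isAffineOpen_mem_and_subset (x := x) (U := U₁ ⊓ U₂) ⟨hxU₁, hxU₂⟩
  have hU1 : U ≤ U₁ := fun y hy => (hUle hy).1
  have hU2 : U ≤ U₂ := fun y hy => (hUle hy).2
  obtain ⟨φE, hφE, hKb⟩ := exists_dual_basis E (hε₀.mono hU1)
  obtain ⟨φN', -, hQb⟩ := exists_dual_basis N' (hc₂.mono hU2)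
  obtain ⟨ΘA, hA0, hA1⟩ := exists_sym j hA hU
  obtain ⟨ΘA', hA0', hA1'⟩ := exists_sym j' hA' hU
  let f := appLin (dualMap a) U
  let g := appLin (dualMap b) U
  let F : Sym ((DCoh.sheafHom N).obj (Coh.structureModule X)) U →ₐ[Γ(X, U)]
      Sym ((DCoh.sheafHom N').obj (Coh.structureModule X)) U :=
    SymmetricAlgebra.lift ((SymmetricAlgebra.ι _ _).comp f)
  have hF : ∀ m, F (SymmetricAlgebra.ι _ _ m) = SymmetricAlgebra.ι _ _ (f m) := fun m =>
    SymmetricAlgebra.lift_ι_apply _ m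
  let ap : Γ(A.spec, A.π ⁻¹ᵁ U) →+* Γ(A'.spec, A'.π ⁻¹ᵁ U) :=
    ((RelSpec.QCAlg.specMap φ).appLE (A.π ⁻¹ᵁ U) (A'.π ⁻¹ᵁ U) (le_preimage φ U)).hom
  have hpre : A'.π ⁻¹ᵁ U = RelSpec.QCAlg.specMap φ ⁻¹ᵁ (A.π ⁻¹ᵁ U) := by
    rw [← Scheme.Hom.comp_preimage, RelSpec.QCAlg.specMap_π]
  have hres : Function.Bijective (A'.spec.presheaf.map (homOfLE (le_preimage φ U)).op) := by
    haveI : IsIso (homOfLE (le_preimage φ U)) := ⟨homOfLE hpre.ge, Subsingleton.elim _ _, Subsingleton.elim _ _⟩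
    exact ConcreteCategory.bijective_of_isIso _
  have hker : RingHom.ker ((RelSpec.QCAlg.specMap φ).app (A.π ⁻¹ᵁ U)).hom = RingHom.ker ap := by
    ext z
    show _ = 0 ↔ A'.spec.presheaf.map _ ((RelSpec.QCAlg.specMap φ).app (A.π ⁻¹ᵁ U) z) = 0
    exact ⟨fun h => by rw [h, map_zero], fun h => hres.1 (h.trans (map_zero _).symm)⟩
  have hcomm : ap.comp ΘA.toRingHom = ΘA'.toRingHom.comp F.toRingHom := by
    refine Groth.L18.SymRing.ringHom_ext (fun r => ?_) (fun m => ?_)
    · show ap (ΘA _) = ΘA' (F _)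
      rw [hA0, F.commutes, hA0']
      apply (Groth.L12.FinCov.bijective_gam A' U).1
      refine (gam_specMap φ hU _).trans ?_
      rw [Groth.L12.FinCov.gam_π, Groth.L12.FinCov.gam_π]
      exact ConcreteCategory.congr_hom (NatTrans.congr_app φ.comm (op U)) r
    · show ap (ΘA _) = ΘA' (F _)
      rw [hA1, hF, hA1']
      apply (Groth.L12.FinCov.bijective_gam A' U).1
      refine (gam_specMap φ hU _).trans ?_
      rw [gam_fn, gam_fn]
      exact congrArg (fun q : _ ⟶ A'.toModule => q.app U m) hφ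
  have hFs : Function.Surjective F := by
    intro y
    have hW : IsAffineOpen (A.π ⁻¹ᵁ U) := hU.preimage A.π
    obtain ⟨z, hz⟩ := hres.2 (ΘA' y)
    obtain ⟨w, rfl⟩ := (RelSpec.QCAlg.specMap φ).app_surjective _ hW z
    refine ⟨ΘA.symm w, ΘA'.injective ?_⟩
    refine (RingHom.congr_fun hcomm _).symm.trans ?_
    show ap (ΘA (ΘA.symm w)) = _
    rw [ΘA.apply_symm_apply]
    exact hz
  have hfs : Function.Surjective f := surjective_of_symMap f F hF hFs
  haveI := hasSheafHom E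
  obtain ⟨w, hm, hdex⟩ := dual_leftExact hex (Groth.L29.DC.isFlat_of_isFinLocFree
    (Groth.L18.KRRAmple.isFinLocFree_of_rank hE))
  have hab' : Function.Injective g ∧ Function.Exact g f := by
    let Φ := Scheme.Modules.toPresheaf X ⋙ (evaluation _ _).obj (op U)
    haveI : Φ.PreservesZeroMorphisms := ⟨fun _ _ => rfl⟩
    haveI := hm
    refine ⟨(AddCommGrpCat.mono_iff_injective _).1 (inferInstanceAs (Mono (Φ.map (dualMap b)))), fun t => ⟨fun ht => ?_, ?_⟩⟩
    · exact (ShortComplex.ab_exact_iff _).1 (hdex.map_of_mono_of_preservesKernel Φ inferInstance inferInstance) t ht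
    · rintro ⟨q, rfl⟩
      exact congrArg (fun q' : (DCoh.sheafHom E).obj (Coh.structureModule X) ⟶ _ => q'.app U q) w
  obtain ⟨B, hB⟩ := exists_sum_basis g f hab'.1 hfs hab'.2 (secBasis hKb) (secBasis hQb)
  let θ := (SymmetricAlgebra.equivMvPolynomial B).toRingEquiv.symm.trans ΘA
  have hθX : ∀ l, θ (MvPolynomial.X (Sum.inl l)) = (linFun j
      ((Groth.L22.PDual.homIso E).inv.app (Coh.structureModule X) ≫ dualMap b)).app U (φE l) := fun l => by
    show ΘA ((SymmetricAlgebra.equivMvPolynomial B).symm (MvPolynomial.X (Sum.inl l))) = _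
    rw [show (SymmetricAlgebra.equivMvPolynomial B).symm (MvPolynomial.X (Sum.inl l)) =
      SymmetricAlgebra.ι _ _ (B (Sum.inl l)) from by
        rw [AlgEquiv.symm_apply_eq, SymmetricAlgebra.equivMvPolynomial_ι_apply], hA1, hB, secBasis_apply]
    rfl
  refine ⟨U, hU, hxU, _, φE, hε₀.mono hU1, hφE, θ, fun r => ?_, hθX, ?_⟩
  · show ΘA ((SymmetricAlgebra.equivMvPolynomial B).symm (MvPolynomial.C r)) = _
    rw [show (SymmetricAlgebra.equivMvPolynomial B).symm (MvPolynomial.C r) = algebraMap _ _ r from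
      (SymmetricAlgebra.equivMvPolynomial B).symm.commutes r, hA0]
  · rw [hker]
    have h1 : RingHom.ker ap = (RingHom.ker F).map ΘA.toRingHom := by
      refine le_antisymm (fun z hz => ?_) (Ideal.map_le_iff_le_comap.2 fun q hq => ?_)
      · rw [← ΘA.apply_symm_apply z]
        refine Ideal.mem_map_of_mem _ ?_
        have h0 := RingHom.congr_fun hcomm (ΘA.symm z)
        simp only [RingHom.comp_apply, RingEquiv.toRingHom_eq_coe, RingEquiv.coe_toRingHom,
          RingEquiv.apply_symm_apply] at h0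
        exact ΘA'.injective ((h0.symm.trans hz).trans (map_zero ΘA').symm)
      · show ap (ΘA q) = 0
        refine (RingHom.congr_fun hcomm q).trans ?_
        show ΘA' (F q) = 0
        rw [show F q = 0 from hq, map_zero]
    rw [h1, ker_symMap f F hF hfs, Ideal.map_span, ← Set.image_comp]
    refine le_antisymm (Ideal.span_le.2 ?_) (Ideal.span_le.2 ?_)
    · rintro _ ⟨q, hq, rfl⟩
      obtain ⟨k, rfl⟩ := (hab'.2 q).1 hq
      rw [← (secBasis hKb).sum_repr k]
      simp only [map_sum, map_smul, Function.comp_apply, Algebra.smul_def]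
      refine Ideal.sum_mem _ fun l _ => ?_
      rw [map_mul]
      refine Ideal.mul_mem_left _ _ (Ideal.subset_span ⟨l, ?_⟩)
      show θ _ = ΘA (SymmetricAlgebra.ι _ _ (g (secBasis hKb l)))
      rw [hθX, hA1, secBasis_apply]
      rfl
    · rintro _ ⟨l, rfl⟩
      refine Ideal.subset_span ⟨g (secBasis hKb l), hab'.2.apply_apply_eq_zero _, ?_⟩
      show ΘA (SymmetricAlgebra.ι _ _ (g (secBasis hKb l))) = θ _
      rw [hθX, hA1, secBasis_apply]
      rfl

include hex hN' hE hA hA' hφ in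
/-- The sub-bundle is the regular zero scheme of a section of the pulled back quotient. -/
theorem exists_zero_section : ∃ s : Γ((Scheme.Modules.pullback A.π).obj E, ⊤),
    (∀ v, v ∈ Set.range (RelSpec.QCAlg.specMap φ) ↔ zIdeal s v ≤ maximalIdeal (A.spec.presheaf.stalk v)) ∧
    (∀ z, RingHom.ker ((RelSpec.QCAlg.specMap φ).stalkMap z).hom = zIdeal s (RelSpec.QCAlg.specMap φ z)) ∧
    ∀ z, StrongGood A.π s (RelSpec.QCAlg.specMap φ z) e := by
  classical
  haveI := hasSheafHom E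
  haveI := Groth.L17.Duality.hasSheafHom E
  let i := RelSpec.QCAlg.specMap φ
  let ℓ := linFun j ((Groth.L22.PDual.homIso E).inv.app (Coh.structureModule X) ≫ dualMap b)
  obtain ⟨s, hs⟩ := exists_sec ℓ (Groth.L18.KRRAmple.isFinLocFree_of_rank hE)
  have key : ∀ v : A.spec, ∃ (U : X.Opens) (_ : IsAffineOpen (A.π ⁻¹ᵁ U)) (hv : v ∈ A.π ⁻¹ᵁ U) (fs : Fin e → Γ(A.spec, A.π ⁻¹ᵁ U))
      (θ : MvPolynomial (Fin e ⊕ Fin r') Γ(X, U) ≃+* Γ(A.spec, A.π ⁻¹ᵁ U)), IsAffineOpen U ∧
      (∀ r, θ (MvPolynomial.C r) = A.π.app U r) ∧ (∀ l, θ (MvPolynomial.X (Sum.inl l)) = fs l) ∧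
      RingHom.ker (i.app (A.π ⁻¹ᵁ U)).hom = Ideal.span (Set.range fs) ∧
      zIdeal s v = (Ideal.span (Set.range fs)).map (A.spec.presheaf.germ (A.π ⁻¹ᵁ U) v hv).hom := by
    intro v
    obtain ⟨U, hU, hvU, ε, φE, hε, hφE, θ, h0, h1, h2⟩ := exists_chart hex hN' hE hA hA' φ hφ (A.π v)
    refine ⟨U, hU.preimage A.π, hvU, fun l => ℓ.app U (φE l), θ, hU, h0, h1, ?_, ?_⟩
    · rw [h2]
      exact congrArg (fun q => Ideal.span (Set.range q)) (funext h1)
    · rw [zIdeal_eq_span s (hε.pullback A.π) (show v ∈ A.π ⁻¹ᵁ U from hvU), hs U e ε φE hε hφE, Ideal.map_span,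
        ← Set.range_comp]
      rfl
  have hker : ∀ z, RingHom.ker (i.stalkMap z).hom = zIdeal s (i z) := fun z => by
    obtain ⟨U, hW, hz, fs, θ, -, -, -, h2, h3⟩ := key (i z)
    rw [Groth.L20.Infinitesimal.ker_stalkMap, Groth.L20.SeeNormal.sI_eq i.ker ⟨_, hW⟩ hz, Scheme.Hom.ker_apply,
      h2, h3]
  refine ⟨s, fun v => ⟨?_, fun hv => ?_⟩, hker, fun z => ?_⟩
  · rintro ⟨z, rfl⟩
    rw [← hker]
    exact le_maximalIdeal (RingHom.ker_ne_top _)
  · obtain ⟨U, hW, hvW, fs, θ, -, -, -, h2, h3⟩ := key v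
    have hmem : v ∈ i.ker.support := by
      rw [Scheme.IdealSheafData.mem_support_iff_of_mem (U := ⟨_, hW⟩) hvW, Scheme.mem_zeroLocus_iff]
      intro f hf hvf
      rw [Scheme.Hom.ker_apply, h2] at hf
      have hm := hv (h3 ▸ Ideal.mem_map_of_mem _ hf)
      exact hm ((A.spec.mem_basicOpen f v hvW).1 hvf)
    have hsupp : (i.ker.support : Set A.spec) = closure (Set.range i) := by rw [Scheme.Hom.support_ker]
    have h' : v ∈ closure (Set.range i) := hsupp ▸ hmem
    rwa [i.isClosedEmbedding.isClosed_range.closure_eq] at h'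
  · obtain ⟨U, hW, hz, fs, θ, hU, h0, h1, h2, h3⟩ := key (i z)
    set v := i z
    let S := A.spec.presheaf.stalk v
    let R := Γ(X, U)
    let B := Γ(A.spec, A.π ⁻¹ᵁ U)
    letI : Algebra R B := (A.π.app U).hom.toAlgebra
    letI : Algebra B S := A.spec.presheaf.algebra_section_stalk ⟨v, hz⟩
    haveI := hW.isLocalization_stalk ⟨v, hz⟩
    letI : Algebra R S := ((algebraMap B S).comp (algebraMap R B)).toAlgebra
    haveI : IsScalarTower R B S := IsScalarTower.of_algebraMap_eq' rfl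
    haveI : Module.Flat B S := IsLocalization.flat S (hW.primeIdealOf ⟨v, hz⟩).asIdeal.primeCompl
    refine ⟨List.ofFn fun l => algebraMap B S (fs l), List.length_ofFn, ?_, fun f hf => ?_, fun I => ?_⟩
    · rw [h3, Ideal.map_span, ← Set.range_comp, Ideal.ofList]
      exact congrArg _ (Set.ext fun q => List.mem_ofFn)
    · have h4 : zIdeal s v ≤ maximalIdeal S := hker z ▸ le_maximalIdeal (RingHom.ker_ne_top _)
      obtain ⟨l, rfl⟩ := List.mem_ofFn.1 hf
      exact h4 (h3 ▸ Ideal.mem_map_of_mem _ (Ideal.subset_span ⟨l, rfl⟩))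
    · letI := X.presheaf.algebra_section_stalk ⟨A.π v, hz⟩
      haveI := hU.isLocalization_stalk ⟨A.π v, hz⟩
      have hI : I.map (A.π.stalkMap v).hom = (I.comap (algebraMap R (X.presheaf.stalk (A.π v)))).map (algebraMap R S) := by
        conv_lhs => rw [← IsLocalization.map_comap (hU.primeIdealOf ⟨A.π v, hz⟩).asIdeal.primeCompl
          (X.presheaf.stalk (A.π v)) I]
        rw [Ideal.map_map]
        congr 1
        exact RingHom.ext fun r => Scheme.Hom.germ_stalkMap_apply A.π U v hz r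
      rw [hI]
      let θ' : MvPolynomial (Fin e ⊕ Fin r') R ≃ₐ[R] B := AlgEquiv.ofRingEquiv (f := θ) h0
      have h5 := regular_quot (S := S) θ' (I.comap (algebraMap R (X.presheaf.stalk (A.π v))))
      simp only [← h1]
      exact h5

end Groth.L22.VBSub
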