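import Groth.Agent.L22.VBSub.Local
import Groth.Agent.L22.VBSub.Chain
import Groth.Agent.L22.Cyc.BaseChange
import Groth.Agent.L22.C1.GysinBC

/-!
The class of a sub vector bundle is the top Chern class of the quotient.
-/

set_option autoImplicit false
set_option linter.style.haveILetI false
set_option linter.unusedSectionVars false
set_option maxHeartbeats 1600000
set_option backward.isDefEq.respectTransparency.types false
set_option backward.isDefEq.respectTransparency false

universe u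

open CategoryTheory CategoryTheory.Limits AlgebraicGeometry TopologicalSpace IsLocalRing RingTheory.Sequence
open Groth.L22.Chern (emb C pb pb_emb pullC pullC_apply pullC_mem pushC pushC_mem rank_pullback Shift)
open Groth.L22.ZeroLocus (zIdeal Good)
open Groth.L18.Frame (pull)

noncomputable section

namespace Groth.L22.VBSub

variable {X : Scheme.{u}} {δ : X → ℤ}

/-- The cycle of a closed subscheme with its fundamental cycle. -/
theorem fund_push_coe {Q P : Scheme.{u}} [IsLocallyNoetherian Q] [IsLocallyNoetherian P] (h : Q ⟶ P)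
    [IsClosedImmersion h] (δP : P → ℤ) {k : ℤ} {Φ : AlgebraicCycle Q ℤ}
    (hΦ : ⇑Φ = Cyc.subschemeFun (fun d => δP (h d)) k (𝟙 Q)) :
    ⇑(pushC h (fun d => δP (h d)) δP Φ) = Cyc.subschemeFun δP k h := funext fun x => by
  unfold Cyc.subschemeFun
  by_cases hx : x ∈ Set.range h
  · obtain ⟨y, rfl⟩ := hx
    rw [Groth.L22.SubBundle.pushC_apply_closed, hΦ, Groth.L22.C1.subschemeFun_id]
    refine if_congr Iff.rfl ?_ rfl
    rw [show {z : Q | h z = h y} = {y} from Set.ext fun z => ⟨fun e => h.isClosedEmbedding.injective e,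
      fun e => by rw [Set.mem_singleton_iff.1 e]; rfl⟩, finsum_mem_singleton]
  · rw [Groth.L22.SubBundle.pushC_outside h δP Φ hx]
    split_ifs
    · rw [show {z : Q | h z = x} = ∅ from Set.eq_empty_iff_forall_notMem.2 fun z hz => hx ⟨z, hz⟩, finsum_mem_empty]
    · rfl

/-- Good modulo the base is good on the preimage of a closed subscheme. -/
theorem StrongGood.good {V : Scheme.{u}} {π : V ⟶ X} {F : V.Modules} (hF : FlatMod.IsFinLocFree F) {s : Γ(F, ⊤)}
    {W : Scheme.{u}} (j : W ⟶ X) [IsClosedImmersion j] (x : ↥(pullback π j)) {r : ℕ}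
    (h : StrongGood π s (pullback.fst π j x) r) :
    Good (E := (Scheme.Modules.pullback (pullback.fst π j)).obj F) (pull (pullback.fst π j) F ⊤ s) x r := by
  obtain ⟨fs, h1, h2, h3, h4⟩ := h
  let g := ((pullback.fst π j).stalkMap x).hom
  refine ⟨fs.map g, ?_, fun f hf => ?_, by simpa using h1, ?_⟩
  · have hker := Groth.L22.C1.ker_stalkMap_fst π j x
    have hsurj : Function.Surjective g := (pullback.fst π j).stalkMap_surjective x
    let I : Ideal (V.presheaf.stalk (pullback.fst π j x)) :=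
      (Groth.L20.SeeNormal.sI j.ker (π (pullback.fst π j x))).map (π.stalkMap (pullback.fst π j x)).hom
    let θ := (Ideal.quotEquivOfEq (hker.symm : I = RingHom.ker g)).trans (RingHom.quotientKerEquivOfSurjective hsurj)
    refine (θ.toAddEquiv.isWeaklyRegular_congr ?_).1 (h4 (Groth.L20.SeeNormal.sI j.ker (π (pullback.fst π j x))))
    rw [List.forall₂_map_right_iff, List.forall₂_same]
    intro a _ q
    obtain ⟨q, rfl⟩ := Ideal.Quotient.mk_surjective q
    show θ (Ideal.Quotient.mk _ (a * q)) = g a * θ (Ideal.Quotient.mk _ q)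
    rw [map_mul, map_mul]
    rfl
  · obtain ⟨f', hf', rfl⟩ := List.mem_map.1 hf
    haveI : IsLocalHom g := (pullback.fst π j).toLRSHom.prop x
    exact (h3 f' hf' : _) |> fun hm => by
      rw [IsLocalRing.mem_maximalIdeal, mem_nonunits_iff] at hm ⊢
      exact fun hu => hm (isUnit_of_map_unit g _ hu)
  · rw [Groth.L22.ZeroLocus.zIdeal_pull _ hF, ← h2, Ideal.map_ofList]

variable {V V' : Scheme.{u}} (π : V ⟶ X) (π' : V' ⟶ X) (i : V' ⟶ V) [IsClosedImmersion i] [Flat π] [Flat π']
  [LocallyOfFiniteType π] [LocallyOfFiniteType π'] (hi : i ≫ π = π') {r' e : ℕ}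
  (hrπ : Cyc.HasRelDim π (r' + e)) (hrπ' : Cyc.HasRelDim π' r') (hX : Cyc.IsSetup X δ) {δV : V → ℤ}
  (hVs : Cyc.IsSetup V δV) (hc : Cyc.DeltaCompat π δV δ) (hc' : Cyc.DeltaCompat π' (fun z => δV (i z)) δ)
  {F : V.Modules} [IsLocallyNoetherian X] [IsLocallyNoetherian V] [IsLocallyNoetherian V'] (hF : FlatMod.IsFinLocFreeOfRank e F) (s : Γ(F, ⊤))
  (hs1 : ∀ v, v ∈ Set.range i ↔ zIdeal s v ≤ maximalIdeal (V.presheaf.stalk v))
  (hs2 : ∀ z, RingHom.ker (i.stalkMap z).hom = zIdeal s (i z))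
  (hs3 : ∀ z, StrongGood π s (i z) e)

include hi hrπ hrπ' hX hVs hc hc' hF hs1 hs2 hs3 in
/-- The push-forward of a pullback to the zero scheme is the top Chern class applied to the pullback. -/
theorem push_eq (hsh : Shift π δV δ ((r' + e : ℕ) : ℤ)) (hsh' : Shift π' (fun z => δV (i z)) δ (r' : ℤ))
    {k : ℤ} {α : AlgebraicCycle X ℤ} (hα : α ∈ Cyc.Zk X δ k) :
    C hVs hF e (pb hX.2.2 hVs.2.2 π hsh (emb δ k α)) =
      emb δV (k + (r' : ℤ)) (pushC i (fun z => δV (i z)) δV (pullC π' hsh' α)) := by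
  classical

  haveI := hVs.1

  obtain ⟨R, ρ, d, δR, hρ, hRs, hcR, hSF⟩ := Groth.L22.Chern.exists_split_one e hVs hF
  haveI := hρ.proper
  haveI := hρ.flat
  haveI := hRs.1
  have hρs : Shift ρ δR δV (d : ℤ) := Groth.L22.Cyc.shift_of_deltaCompat ρ hρ.relDim hcR
  obtain ⟨hGr, T, hTs, hTm, hTC, hTf⟩ := exists_topMap hRs hSF
  have hL : k + (r' : ℤ) + (d : ℤ) = k + ((r' + e : ℕ) : ℤ) + (d : ℤ) - (e : ℤ) := by push_cast; ring
  have hm1 := pullC_mem ρ hρs (pullC_mem π hsh hα)
  have hm2 := pushC_mem i (δX := fun z => δV (i z)) (δY := δV) (pullC_mem π' hsh' hα)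
  refine Groth.L22.Chern.pb_injective_of_inj ρ hVs hRs hρ.inj hcR hρs ?_
  rw [Groth.L22.Chern.over'_C ρ hVs hRs hρ.relDim hcR hF e, pb_emb _ _ π hsh hα,
    pb_emb _ _ ρ hρs (pullC_mem π hsh hα), pb_emb _ _ ρ hρs hm2, hTC _ _ _ hm1, hL]
  have hTm' := hTm _ _ hm1
  have hΨm := pullC_mem ρ hρs hm2
  rw [hL] at hΨm
  refine Groth.L22.Chern.emb_eq hRs.2.2 hTm' hΨm ?_
  -- the pieces
  let J := {p : X // α p ≠ 0}
  let S : J → Set R := fun q => (ρ ≫ π) ⁻¹' closure {q.1}
  have hS : LocFam S := ⟨fun q => isClosed_closure.preimage (ρ ≫ π).continuous, fun x => by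
    obtain ⟨U, hU, hxU, hfin⟩ := Groth.L22.C1.cycle_loc α ((ρ ≫ π) x)
    refine ⟨(ρ ≫ π) ⁻¹' U, hU.preimage (ρ ≫ π).continuous, hxU, hfin.subset fun q hq => ?_⟩
    obtain ⟨z, hz, hzU⟩ := hq
    exact ⟨(ρ ≫ π) z, hz, hzU⟩⟩
  choose P1 hP1 hP2 using fun q : J => Groth.L22.Chern.exists_single q.1
  let G : J → AlgebraicCycle R ℤ := fun q => α q.1 • pullC ρ hρs (pullC π hsh (P1 q))
  let H : J → AlgebraicCycle R ℤ := fun q =>
    α q.1 • pullC ρ hρs (pushC i (fun z => δV (i z)) δV (pullC π' hsh' (P1 q)))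
  have hsum : ∀ y : X, α y = ∑ᶠ q : J, α q.1 * P1 q y := fun y => by
    by_cases hy : α y = 0
    · rw [hy, finsum_eq_zero_of_forall_eq_zero fun q => ?_]
      have : y ≠ q.1 := fun h => q.2 (h ▸ hy)
      rw [hP2 q y this, mul_zero]
    · rw [finsum_eq_single _ (⟨y, hy⟩ : J) fun q hq => by
        rw [hP2 q y fun h => hq (Subtype.ext h.symm), mul_zero], hP1, mul_one]
  have hπi : ∀ z, π' z = π (i z) := fun z => by rw [← hi]; rfl
  have hG : IsSumOf S G (pullC ρ hρs (pullC π hsh α)) := by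
    refine ⟨fun q x hx => ?_, fun x => ?_⟩
    · have hv : P1 q (π (ρ x)) ≠ 0 := fun h => hx (by
        simp only [G, Function.locallyFinsuppWithin.coe_zsmul, Pi.smul_apply, pullC_apply, h, zero_mul, smul_zero])
      have : π (ρ x) = q.1 := by_contra fun h => hv (hP2 q _ h)
      show (ρ ≫ π) x ∈ closure {q.1}
      rw [Scheme.Hom.comp_apply, this]
      exact subset_closure rfl
    · simp only [G, Function.locallyFinsuppWithin.coe_zsmul, Pi.smul_apply, pullC_apply, smul_eq_mul, ← mul_assoc]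
      rw [← finsum_mul, ← finsum_mul, ← hsum]
  have hH : IsSumOf S H (pullC ρ hρs (pushC i (fun z => δV (i z)) δV (pullC π' hsh' α))) := by
    refine ⟨fun q x hx => ?_, fun x => ?_⟩
    · simp only [H, Function.locallyFinsuppWithin.coe_zsmul, Pi.smul_apply, pullC_apply, smul_eq_mul] at hx
      have h1 : pushC i (fun z => δV (i z)) δV (pullC π' hsh' (P1 q)) (ρ x) ≠ 0 := fun h => hx (by rw [h, zero_mul, mul_zero])
      obtain ⟨z, hz⟩ : ρ x ∈ Set.range i := by_contra fun h => h1 (Groth.L22.SubBundle.pushC_outside i δV _ h)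
      rw [← hz, Groth.L22.SubBundle.pushC_apply_closed, pullC_apply] at h1
      have : π' z = q.1 := by_contra fun h => left_ne_zero_of_mul h1 (hP2 q _ h)
      show (ρ ≫ π) x ∈ closure {q.1}
      rw [Scheme.Hom.comp_apply, ← hz, ← hπi, this]
      exact subset_closure rfl
    · simp only [H, Function.locallyFinsuppWithin.coe_zsmul, Pi.smul_apply, pullC_apply, smul_eq_mul]
      by_cases hx : ρ x ∈ Set.range i
      · obtain ⟨z, hz⟩ := hx
        simp only [← hz, Groth.L22.SubBundle.pushC_apply_closed, pullC_apply, ← mul_assoc]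
        rw [← finsum_mul, ← finsum_mul, ← hsum]
      · simp only [Groth.L22.SubBundle.pushC_outside i δV _ hx, zero_mul, mul_zero, finsum_zero]
  have hTG := hTs S hS G _ hG
  -- each piece
  have piece : ∀ q : J, Groth.L22.C1.RatOn δR (k + ((r' + e : ℕ) : ℤ) + (d : ℤ) - (e : ℤ)) (S q)
      (fun x => T (G q) x - H q x) := by
    intro q
    let W := Groth.L22.Cyc.clSub q.1
    let j : W ⟶ X := Groth.L22.Cyc.clι q.1
    let δW : W → ℤ := fun w => δ (j w)
    haveI : IsLocallyNoetherian W := Groth.L22.Cyc.isLocallyNoetherian_clSub q.1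
    have hcj := Groth.L22.C1.deltaCompat_closedImmersion j δ
    have hWs : Cyc.IsSetup W δW := Groth.L22.Chern.setup_of_compat j hX hcj
    have hk : δ q.1 = k := not_not.1 fun h => q.2 (hα q.1 h)
    have hgen : δW (genericPoint W) = k := by
      show δ (j (genericPoint W)) = k
      rw [Groth.L22.Cyc.clι_genericPoint, hk]
    have hdW : ∀ w, δW w ≤ k := fun w => by
      by_cases hw : w = genericPoint W
      · rw [hw, hgen]
      · exact (hgen ▸ Groth.L22.C1.delta_lt_generic hWs.2.2 hw).le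
    obtain ⟨αW, hαW⟩ : ∃ A : AlgebraicCycle W ℤ, ⇑A = Cyc.subschemeFun δW k (𝟙 W) := by
      obtain ⟨A, h1, h2⟩ := Groth.L22.Chern.exists_single (genericPoint W)
      letI : Field (W.presheaf.stalk (genericPoint W)) := inferInstanceAs (Field W.functionField)
      refine ⟨A, funext fun x => ?_⟩
      rw [Groth.L22.C1.subschemeFun_id]
      by_cases hx : x = genericPoint W
      · subst hx
        rw [h1, if_pos hgen, Module.length_eq_one (W.presheaf.stalk (genericPoint W)) (W.presheaf.stalk (genericPoint W))]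
        rfl
      · rw [h2 x hx, if_neg (fun he' => by have := hgen ▸ Groth.L22.C1.delta_lt_generic hWs.2.2 hx; omega)]
    have hαWm : αW ∈ Cyc.Zk W δW k := Groth.L22.ZeroLocus.fund_mem hαW
    have hP1W : pushC j δW δ αW = P1 q := by
      ext y
      by_cases hy : y ∈ Set.range j
      · obtain ⟨w, rfl⟩ := hy
        rw [Groth.L22.SubBundle.pushC_apply_closed]
        by_cases hw : w = genericPoint W
        · subst hw
          letI : Field (W.presheaf.stalk (genericPoint W)) := inferInstanceAs (Field W.functionField)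
          rw [Groth.L22.Cyc.clι_genericPoint, hP1, hαW, Groth.L22.C1.subschemeFun_id, if_pos hgen,
            Module.length_eq_one (W.presheaf.stalk (genericPoint W)) (W.presheaf.stalk (genericPoint W))]
          rfl
        · rw [hαW, Groth.L22.C1.subschemeFun_id, if_neg (fun he' => by
            have := hgen ▸ Groth.L22.C1.delta_lt_generic hWs.2.2 hw; omega)]
          exact (hP2 q _ fun h => hw (j.isClosedEmbedding.injective
            (h.trans (Groth.L22.Cyc.clι_genericPoint q.1).symm))).symm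
      · rw [Groth.L22.SubBundle.pushC_outside j δ αW hy]
        exact (hP2 q y fun h => hy (h ▸ (Groth.L22.Cyc.range_clι q.1).ge (subset_closure rfl))).symm
    -- the bundle over the closed subscheme
    let VW := pullback π j
    let fW : VW ⟶ V := pullback.fst π j
    let πW : VW ⟶ W := pullback.snd π j
    have sqW : IsPullback fW πW π j := IsPullback.of_hasPullback π j
    haveI : LocallyOfFiniteType πW := MorphismProperty.pullback_snd π j inferInstance
    haveI : Flat πW := MorphismProperty.pullback_snd π j inferInstance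
    haveI : IsLocallyNoetherian VW := LocallyOfFiniteType.isLocallyNoetherian fW
    let δVW : VW → ℤ := fun x => δV (fW x)
    have hcW : Cyc.DeltaCompat πW δVW δW := Groth.L22.Cyc.deltaCompat_square π fW j πW hc pullback.condition.symm
    have hVWs : Cyc.IsSetup VW δVW :=
      Groth.L22.Chern.setup_of_compat fW hVs (Groth.L22.C1.deltaCompat_closedImmersion fW δV)
    have hrW : Cyc.HasRelDim πW (r' + e) := Groth.L22.Cyc.hasRelDim_baseChange sqW hrπ
    have hWsh : Shift πW δVW δW ((r' + e : ℕ) : ℤ) := Groth.L22.Cyc.shift_of_deltaCompat πW hrW hcW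
    let Z := pullback fW i
    let i' : Z ⟶ VW := pullback.fst fW i
    let g : Z ⟶ V' := pullback.snd fW i
    haveI : IsLocallyNoetherian Z := LocallyOfFiniteType.isLocallyNoetherian i'
    have sqZ : IsPullback g (i' ≫ πW) π' j := hi ▸ ((IsPullback.of_hasPullback fW i).flip.paste_vert sqW)
    haveI : LocallyOfFiniteType (i' ≫ πW) := inferInstance
    haveI : Flat (i' ≫ πW) := MorphismProperty.of_isPullback sqZ ‹Flat π'›
    have hrZ : Cyc.HasRelDim (i' ≫ πW) r' := Groth.L22.Cyc.hasRelDim_baseChange sqZ hrπ'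
    have hcZ : Cyc.DeltaCompat (i' ≫ πW) (fun z => δVW (i' z)) δW := Groth.L22.Bundle.deltaCompat_comp i' πW hcW
    have hZsh : Shift (i' ≫ πW) (fun z => δVW (i' z)) δW (r' : ℤ) := Groth.L22.Cyc.shift_of_deltaCompat _ hrZ hcZ
    have hFV := rank_pullback fW hF
    let ζ := pushC i' (fun z => δVW (i' z)) δVW (pullC (i' ≫ πW) hZsh αW)
    have hn : ∀ x, δVW x ≤ k + ((r' + e : ℕ) : ℤ) := fun x => by
      have := (Groth.L22.ZeroLocus.delta_fibre πW hrW hVWs.2.2 hcW x).1
      have := hdW (πW x)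
      omega
    have hkn : k + ((r' + e : ℕ) : ℤ) - (e : ℤ) = k + (r' : ℤ) := by push_cast; ring
    have hZd := Groth.L22.Cyc.isDimFun_closedImmersion i' hVWs.2.2
    have hζ : ⇑ζ = Cyc.subschemeFun δVW (k + ((r' + e : ℕ) : ℤ) - (e : ℤ)) i' := by
      rw [hkn]
      exact fund_push_coe i' δVW (Groth.L22.SubBundle.fund_flat (i' ≫ πW) hrZ hZd hcZ hZsh hdW hαW)
    have hfi : ∀ z : Z, i (g z) = fW (i' z) := fun z =>
      (congrArg (fun q' : Z ⟶ V => q' z) pullback.condition).symm
    have hΦW : ⇑(pullC πW hWsh αW) = Cyc.subschemeFun δVW (k + ((r' + e : ℕ) : ℤ)) (𝟙 VW) :=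
      Groth.L22.SubBundle.fund_flat πW hrW hVWs.2.2 hcW hWsh hdW hαW
    have hFf := Groth.L18.KRRAmple.isFinLocFree_of_rank hF
    have hCW : C hVWs hFV e (emb δVW (k + ((r' + e : ℕ) : ℤ)) (pullC πW hWsh αW)) =
        emb δVW (k + ((r' + e : ℕ) : ℤ) - (e : ℤ)) ζ := by
      refine Groth.L22.ZeroLocus.C_top_eq hVWs hFV hn (pull fW F ⊤ s) i' (fun x => ?_) (fun z => ?_) (fun z => ?_)
        (fun z _ => ?_) hΦW hζ
      · rw [Scheme.Pullback.range_fst, Set.mem_preimage, hs1, Groth.L22.ZeroLocus.zIdeal_pull fW hFf,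
          Ideal.map_le_iff_le_comap]
        haveI : IsLocalHom (fW.stalkMap x).hom := fW.toLRSHom.prop x
        rw [IsLocalRing.maximalIdeal_comap]
      · rw [Groth.L22.C1.ker_stalkMap_fst, Groth.L22.ZeroLocus.zIdeal_pull fW hFf]
        refine congrArg (Ideal.map _) ?_
        show Groth.L20.SeeNormal.sI i.ker (fW (i' z)) = zIdeal s (fW (i' z))
        rw [← hfi z, ← Groth.L20.Infinitesimal.ker_stalkMap, hs2]
      · have := (Groth.L22.ZeroLocus.delta_fibre (i' ≫ πW) hrZ hZd hcZ z).1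
        have := hdW ((i' ≫ πW) z)
        show δVW (i' z) ≤ _
        omega
      · refine StrongGood.good hFf j (i' z) ?_
        show StrongGood π s (fW (i' z)) e
        rw [← hfi z]
        exact hs3 (g z)
    -- on the splitting
    let RW := pullback ρ fW
    let fR : RW ⟶ R := pullback.fst ρ fW
    let ρW : RW ⟶ VW := pullback.snd ρ fW
    have sqR : IsPullback fR ρW ρ fW := IsPullback.of_hasPullback ρ fW
    haveI : LocallyOfFiniteType ρW := MorphismProperty.pullback_snd ρ fW inferInstance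
    haveI : Flat ρW := MorphismProperty.pullback_snd ρ fW inferInstance
    haveI : IsLocallyNoetherian RW := LocallyOfFiniteType.isLocallyNoetherian fR
    let δRW : RW → ℤ := fun x => δR (fR x)
    have hcRW : Cyc.DeltaCompat ρW δRW δVW := Groth.L22.Cyc.deltaCompat_square ρ fR fW ρW hcR pullback.condition.symm
    have hRWs : Cyc.IsSetup RW δRW :=
      Groth.L22.Chern.setup_of_compat fR hRs (Groth.L22.C1.deltaCompat_closedImmersion fR δR)
    have hrR : Cyc.HasRelDim ρW d := Groth.L22.Cyc.hasRelDim_baseChange sqR hρ.relDim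
    have hRsh : Shift ρW δRW δVW (d : ℤ) := Groth.L22.Cyc.shift_of_deltaCompat ρW hrR hcRW
    have hm := pullC_mem πW hWsh hαWm
    obtain ⟨B, hB, e1, e2⟩ := hTf RW fR hRWs (rank_pullback fR hGr) _ _ (pullC_mem ρW hRsh hm)
    have hcongr : (Scheme.Modules.pullback fR).obj ((Scheme.Modules.pullback ρ).obj F) ≅
        (Scheme.Modules.pullback ρW).obj ((Scheme.Modules.pullback fW).obj F) :=
      (Scheme.Modules.pullbackComp fR ρ).app F ≪≫ (Scheme.Modules.pullbackCongr pullback.condition).app F ≪≫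
        ((Scheme.Modules.pullbackComp ρW fW).app F).symm
    have hζm : ζ ∈ Cyc.Zk VW δVW (k + (r' : ℤ)) := pushC_mem i' (pullC_mem (i' ≫ πW) hZsh hαWm)
    rw [Groth.L22.Chern.C_congr hRWs _ (rank_pullback ρW hFV) hcongr, ← pb_emb hVWs.2.2 hRWs.2.2 ρW hRsh hm,
      ← Groth.L22.Chern.over'_C ρW hVWs hRWs hrR hcRW hFV e, hCW, hkn, pb_emb _ _ ρW hRsh hζm, hL] at e2
    have hζR := pullC_mem ρW hRsh hζm
    rw [hL] at hζR
    have hrat := Groth.L22.Chern.rat_of_emb_eq hRWs.2.2 hB hζR e2.symm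
    have hA : pushC fR δRW δR (pullC ρW hRsh (pullC πW hWsh αW)) = pullC ρ hρs (pullC π hsh (P1 q)) := by
      rw [Groth.L22.Chern.pushC_pullC hRs.2.2 fW ρ fR ρW sqR (Groth.L22.C1.deltaCompat_closedImmersion fW δV)
          (Groth.L22.C1.deltaCompat_closedImmersion fR δR) hρs hRsh,
        Groth.L22.Chern.pushC_pullC hVs.2.2 j π fW πW sqW hcj (Groth.L22.C1.deltaCompat_closedImmersion fW δV) hsh hWsh,
        hP1W]
    have hδg : (fun z : Z => δVW (i' z)) = fun z => δV (i (g z)) := funext fun z => congrArg δV (hfi z).symm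
    have hgζ : pushC fW δVW δV ζ = pushC i (fun z => δV (i z)) δV (pullC π' hsh' (P1 q)) := by
      have hgc : IsClosedImmersion g := inferInstance
      rw [← hP1W, ← Groth.L22.Chern.pushC_pullC (Groth.L22.Cyc.isDimFun_closedImmersion i hVs.2.2) j π' g (i' ≫ πW) sqZ
        hcj (hδg ▸ Groth.L22.C1.deltaCompat_closedImmersion g (fun z => δV (i z))) hsh' hZsh]
      rw [show ζ = pushC i' (fun z => δVW (i' z)) δVW (pullC (i' ≫ πW) hZsh αW) from rfl,
        Groth.L22.SubBundle.pushC_comp_closed i' δVW fW (i' ≫ fW) rfl δV]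
      generalize pullC (i' ≫ πW) hZsh αW = A
      rw [hδg]
      exact (Groth.L22.SubBundle.pushC_comp_closed g (fun z => δV (i z)) i (i' ≫ fW) pullback.condition.symm δV A).symm
    have hB' : pushC fR δRW δR (pullC ρW hRsh ζ) =
        pullC ρ hρs (pushC i (fun z => δV (i z)) δV (pullC π' hsh' (P1 q))) := by
      rw [Groth.L22.Chern.pushC_pullC hRs.2.2 fW ρ fR ρW sqR (Groth.L22.C1.deltaCompat_closedImmersion fW δV)
          (Groth.L22.C1.deltaCompat_closedImmersion fR δR) hρs hRsh, hgζ]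
    have hsub : Set.range fR ⊆ S q := by
      rintro _ ⟨x, rfl⟩
      show (ρ ≫ π) (fR x) ∈ closure {q.1}
      rw [← Groth.L22.Cyc.range_clι, ← Scheme.Hom.comp_apply, ← Category.assoc,
        show (fR ≫ ρ) ≫ π = (ρW ≫ πW) ≫ j by
          rw [show fR ≫ ρ = ρW ≫ fW from pullback.condition, Category.assoc, Category.assoc,
            show fW ≫ π = πW ≫ j from pullback.condition], Scheme.Hom.comp_apply]
      exact ⟨_, rfl⟩
    have h1 : Groth.L22.C1.RatOn δR (k + ((r' + e : ℕ) : ℤ) + (d : ℤ) - (e : ℤ)) (S q)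
        ⇑(pushC fR δRW δR (B - pullC ρW hRsh ζ)) :=
      (Groth.L22.C1.ratOn_univ hrat).map fR hRs.2.2 (fun w _ => hsub ⟨w, rfl⟩)
        (fun w => Groth.L22.SubBundle.pushC_apply_closed fR δR _ w)
        (fun x hx => Groth.L22.SubBundle.pushC_outside fR δR _ hx)
    refine (h1.zsmul hRs.2.2 (α q.1)).congr fun x => ?_
    rw [map_sub, ← e1, hA, hB']
    simp only [G, H, map_zsmul, Function.locallyFinsuppWithin.coe_zsmul, Function.locallyFinsuppWithin.coe_sub,
      Pi.smul_apply, Pi.sub_apply, smul_eq_mul, mul_sub]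
  refine (ratOn_sum hS _ piece).ratEquivZero _ (funext fun x => ?_)
  obtain ⟨U, -, hxU, hfin⟩ := hS.finite x
  have hf : ∀ (K : J → AlgebraicCycle R ℤ), (∀ q y, K q y ≠ 0 → y ∈ S q) →
      (Function.support fun q => K q x).Finite :=
    fun K hK => hfin.subset fun q hq => ⟨x, hK q x hq, hxU⟩
  rw [finsum_sub_distrib (hf _ hTG.supp) (hf _ hH.supp)]
  exact congrArg₂ (· - ·) (hTG.eq x) (hH.eq x)

end Groth.L22.VBSub
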